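import Mathlib
import Cfsg.Agent.GroupStructure3.ClassGraph.Basic
import Cfsg.Agent.GStructB.Cover
import Cfsg.Agent.Lib.Cores.Nilpotent
import Cfsg.Agent.Lib.CharTheory.QuasiElementary

/-!
Groups with three class sizes `1`, `m`, `m * n`: general lemmas.
-/

set_option autoImplicit false
set_option linter.style.haveILetI false
set_option linter.deprecated false
set_option linter.unusedSectionVars false

namespace Cfsg.Agent.GroupStructure3.ThreeSizes

open Subgroup ClassGraph
open scoped commutatorElement Pointwise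

variable {G : Type*} [Group G]

/-- The centraliser of an element. -/
abbrev C (g : G) : Subgroup G := centralizer ({g} : Set G)

/-- Elements of prime power order. -/
def PEl (p : ℕ) (g : G) : Prop := ∃ k : ℕ, g ^ p ^ k = 1

/-- The exponent of `p` in the order of a subgroup. -/
noncomputable abbrev fac (p : ℕ) (H : Subgroup G) : ℕ := (Nat.card H).factorization p

theorem mem_C_comm {a b : G} : a ∈ C b ↔ b ∈ C a := by rw [mem_cent, mem_cent, eq_comm]

theorem self_mem_C (a : G) : a ∈ C a := mem_cent.mpr rfl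

theorem center_le_C (a : G) : center G ≤ C a := center_le_centralizer _

theorem C_mul_central (a : G) {z : G} (hz : z ∈ center G) : C (a * z) = C a := by
  ext x
  rw [mem_cent, mem_cent]
  have hx : x * z = z * x := mem_center_iff.mp hz x
  constructor
  · intro h
    rw [← mul_assoc, mul_assoc a z x, ← hx, ← mul_assoc] at h
    exact mul_right_cancel h
  · intro h
    rw [← mul_assoc, h, mul_assoc, mul_assoc, hx]

theorem C_conj (c a : G) {x : G} : x ∈ C (c * a * c⁻¹) ↔ c⁻¹ * x * c ∈ C a := by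
  rw [C, centralizer_conj, mem_map_equiv, MulAut.conj_symm_apply]

theorem PEl.one (p : ℕ) : PEl p (1 : G) := ⟨0, by simp⟩

theorem PEl.inv {p : ℕ} {g : G} (h : PEl p g) : PEl p g⁻¹ := by
  obtain ⟨k, hk⟩ := h; exact ⟨k, by rw [inv_pow, hk, inv_one]⟩

theorem PEl.mul {p : ℕ} {g h : G} (hc : Commute g h) (hg : PEl p g) (hh : PEl p h) : PEl p (g * h) := by
  obtain ⟨k, hk⟩ := hg
  obtain ⟨l, hl⟩ := hh
  refine ⟨k + l, ?_⟩
  rw [hc.mul_pow]
  have e1 : g ^ p ^ (k + l) = 1 := by rw [pow_add, pow_mul, hk, one_pow]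
  have e2 : h ^ p ^ (k + l) = 1 := by rw [pow_add, mul_comm, pow_mul, hl, one_pow]
  rw [e1, e2, one_mul]

theorem PEl.conj {p : ℕ} {g : G} (h : PEl p g) (c : G) : PEl p (c * g * c⁻¹) := by
  obtain ⟨k, hk⟩ := h; exact ⟨k, by rw [conj_pow, hk]; group⟩

theorem PEl.map {K : Type*} [Group K] {p : ℕ} {g : G} (h : PEl p g) (f : G →* K) : PEl p (f g) := by
  obtain ⟨k, hk⟩ := h; exact ⟨k, by rw [← map_pow, hk, map_one]⟩

theorem PEl.coe {p : ℕ} {H : Subgroup G} {g : H} (h : PEl p g) : PEl p (g : G) := h.map H.subtype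

theorem PEl.sub {p : ℕ} {H : Subgroup G} {g : H} (h : PEl p (g : G)) : PEl p g := by
  obtain ⟨k, hk⟩ := h; exact ⟨k, Subtype.ext (by simpa using hk)⟩

theorem PEl.of_isPGroup {p : ℕ} {P : Subgroup G} (hP : IsPGroup p P) {g : G} (hg : g ∈ P) : PEl p g := by
  obtain ⟨k, hk⟩ := hP ⟨g, hg⟩
  exact ⟨k, by simpa [Subtype.ext_iff] using hk⟩

theorem PEl.orderOf_dvd {p : ℕ} {g : G} (h : PEl p g) : ∃ k, orderOf g ∣ p ^ k := by
  obtain ⟨k, hk⟩ := h; exact ⟨k, orderOf_dvd_of_pow_eq_one hk⟩

theorem PEl.coprime {p q : ℕ} (hp : p.Prime) (hq : q.Prime) (hpq : p ≠ q) {g h : G} (hg : PEl p g) (hh : PEl q h) :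
    (orderOf g).Coprime (orderOf h) := by
  obtain ⟨k, hk⟩ := hg.orderOf_dvd
  obtain ⟨l, hl⟩ := hh.orderOf_dvd
  exact (((Nat.coprime_primes hp hq).mpr hpq).pow k l).coprime_dvd_left hk |>.coprime_dvd_right hl

theorem PEl.coprime_right {p : ℕ} {g h : G} (hh : PEl p h) (hg : (orderOf g).Coprime p) :
    (orderOf g).Coprime (orderOf h) := by
  obtain ⟨l, hl⟩ := hh.orderOf_dvd
  exact (hg.pow_right l).coprime_dvd_right hl

theorem PEl.isPGroup {p : ℕ} {g : G} (h : PEl p g) : IsPGroup p (zpowers g) := by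
  obtain ⟨k, hk⟩ := h
  rintro ⟨a, ha⟩
  obtain ⟨i, rfl⟩ := mem_zpowers_iff.mp ha
  refine ⟨k, Subtype.ext ?_⟩
  simp only [SubmonoidClass.coe_pow, OneMemClass.coe_one]
  rw [← zpow_natCast, ← zpow_mul, mul_comm, zpow_mul, zpow_natCast, hk, one_zpow]

theorem PEl.eq_one {p q : ℕ} (hp : p.Prime) (hq : q.Prime) (hpq : p ≠ q) {g : G} (hg : PEl p g) (hh : PEl q g) :
    g = 1 := orderOf_eq_one_iff.mp ((Nat.coprime_self _).mp (hg.coprime hp hq hpq hh))

variable [Finite G]

theorem eq_of_le_of_cs {a b : G} (h : C a ≤ C b) (e : cs a = cs b) : C a = C b := by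
  refine Subgroup.eq_of_le_of_card_ge h (le_of_eq ?_)
  have h1 := (C a).card_mul_index
  have h2 := (C b).card_mul_index
  simp only [cs] at e
  have e' : (C b).index = (C a).index := e.symm
  rw [e'] at h2
  exact Nat.eq_of_mul_eq_mul_right (Nat.pos_of_ne_zero index_ne_zero_of_finite) (h2.trans h1.symm)

theorem fac_add_index (p : ℕ) (H : Subgroup G) :
    fac p H + H.index.factorization p = (Nat.card G).factorization p := by
  conv_rhs => rw [← H.card_mul_index]
  rw [Nat.factorization_mul Nat.card_pos.ne' index_ne_zero_of_finite, Finsupp.coe_add, Pi.add_apply]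

theorem fac_mono {p : ℕ} {H K : Subgroup G} (h : H ≤ K) : fac p H ≤ fac p K :=
  (Nat.factorization_le_iff_dvd Nat.card_pos.ne' Nat.card_pos.ne').mpr (card_dvd_of_le h) p

theorem card_le_pow_fac {p : ℕ} [Fact p.Prime] {S H : Subgroup G} (hS : IsPGroup p S) (h : S ≤ H) :
    Nat.card S ≤ p ^ fac p H := by
  obtain ⟨k, hk⟩ := IsPGroup.iff_card.mp hS
  rw [hk]
  refine Nat.pow_le_pow_right (Fact.out (p := p.Prime)).pos ?_
  have := fac_mono (p := p) h
  rwa [fac, hk, (Fact.out (p := p.Prime)).factorization_pow, Finsupp.single_eq_same] at this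

theorem fac_eq_of_card {p k : ℕ} (hp : p.Prime) {S : Subgroup G} (h : Nat.card S = p ^ k) : fac p S = k := by
  rw [fac, h, hp.factorization_pow, Finsupp.single_eq_same]

theorem exists_pel_not_mem {p : ℕ} [Fact p.Prime] {H K : Subgroup G} (h : fac p K < fac p H) :
    ∃ v ∈ H, PEl p v ∧ v ∉ K := by
  obtain ⟨S⟩ : Nonempty (Sylow p H) := inferInstance
  have hS : IsPGroup p ((S : Subgroup H).map H.subtype) := S.2.map _
  by_contra hcon
  push Not at hcon
  have hle : (S : Subgroup H).map H.subtype ≤ K := fun v hv =>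
    hcon v (map_subtype_le _ hv) (PEl.of_isPGroup hS hv)
  have := card_le_pow_fac hS hle
  rw [card_subtype, S.card_eq_multiplicity] at this
  exact absurd ((Nat.pow_le_pow_iff_right (Fact.out (p := p.Prime)).one_lt).mp this) (by show ¬ fac p H ≤ fac p K; omega)

theorem fac_lt_of_pel {p : ℕ} [Fact p.Prime] {H : Subgroup G} (hZ : center G ≤ H) {v : G} (hv : v ∈ H)
    (hp : PEl p v) (hvZ : v ∉ center G) : fac p (center G) < fac p H := by
  obtain ⟨T⟩ : Nonempty (Sylow p (center G)) := inferInstance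
  set T' := (T : Subgroup (center G)).map (center G).subtype with hT'
  have hTc : T' ≤ center G := map_subtype_le _
  haveI : T'.Normal := ⟨fun n hn g => by rw [mem_center_iff.mp (hTc hn) g, mul_inv_cancel_right]; exact hn⟩
  have hsup : IsPGroup p (zpowers v ⊔ T' : Subgroup G) :=
    hp.isPGroup.to_sup_of_normal_right (T.2.map _)
  have h1 := card_le_pow_fac hsup (sup_le (zpowers_le.mpr hv) (hTc.trans hZ))
  have h2 : Nat.card T' < Nat.card (zpowers v ⊔ T' : Subgroup G) := by
    refine lt_of_le_of_ne (Subgroup.card_le_of_le le_sup_right) fun e => hvZ (hTc ?_)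
    rw [Subgroup.eq_of_le_of_card_ge le_sup_right e.ge]
    exact mem_sup_left (mem_zpowers v)
  rw [hT', card_subtype, T.card_eq_multiplicity] at h2
  exact (Nat.pow_lt_pow_iff_right (Fact.out (p := p.Prime)).one_lt).mp (h2.trans_le h1)

/-- A subgroup contains an element as soon as it contains all its primary parts. -/
theorem mem_of_primary {g : G} {L : Subgroup G}
    (h : ∀ t : ℕ, t.Prime → ∀ v ∈ zpowers g, PEl t v → v ∈ L) : g ∈ L := by
  have hle : zpowers g ≤ L := by
    rw [← subgroupOf_eq_top, ← index_eq_one]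
    refine Nat.eq_one_iff_not_exists_prime_dvd.mpr fun r hr hd => ?_
    haveI := Fact.mk hr
    obtain ⟨S⟩ : Nonempty (Sylow r (zpowers g)) := inferInstance
    refine S.not_dvd_index (hd.trans (index_dvd_of_le fun s hs => ?_))
    exact h r hr _ s.2 (PEl.of_isPGroup S.2 hs).coe
  exact hle (mem_zpowers g)

theorem exists_component {g : G} (hg : g ∉ center G) :
    ∃ t : ℕ, t.Prime ∧ ∃ v ∈ zpowers g, PEl t v ∧ v ∉ center G := by
  by_contra hcon
  push Not at hcon
  exact hg (mem_of_primary fun t ht v hv hp => hcon t ht v hv hp)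

theorem C_le_of_mem_zpowers {g v : G} (h : v ∈ zpowers g) : C g ≤ C v := by
  obtain ⟨i, rfl⟩ := mem_zpowers_iff.mp h
  exact fun x hx => mem_cent.mpr ((show Commute x g from mem_cent.mp hx).zpow_right i).eq

theorem exists_pdecomp (p : ℕ) (hp : p.Prime) (g : G) : ∃ u v : G, g = u * v ∧ Commute u v ∧
    u ∈ zpowers g ∧ v ∈ zpowers g ∧ PEl p v ∧ (orderOf u).Coprime p := by
  obtain ⟨u, v, h1, h2, h3, h4, ⟨a, ha⟩, h5⟩ := CharTheory.QuasiElementary.exists_pPart_decomp g hp
  exact ⟨u, v, h1, h2, h3, h4, ⟨a, ha ▸ pow_orderOf_eq_one v⟩, h5⟩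

/-- A Sylow subgroup of `G` inside a subgroup of index prime to `r`, through a given element. -/
theorem exists_sylow_le {r : ℕ} [Fact r.Prime] {H : Subgroup G} (hH : ¬ r ∣ H.index) {v : G} (hv : v ∈ H)
    (hp : PEl r v) : ∃ R : Sylow r G, v ∈ R ∧ (R : Subgroup G) ≤ H := by
  obtain ⟨R, hR⟩ := (hp.isPGroup.to_le le_rfl).exists_le_sylow (G := G)
  obtain ⟨S, hS⟩ := (PEl.sub (g := (⟨v, hv⟩ : H)) hp).isPGroup.exists_le_sylow
  have hc : Nat.card ((S : Subgroup H).map H.subtype) = r ^ (Nat.card G).factorization r := by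
    rw [card_subtype, S.card_eq_multiplicity]
    congr 1
    rw [← fac_add_index r H, Nat.factorization_eq_zero_of_not_dvd hH, add_zero]
  refine ⟨Sylow.ofCard _ hc, ?_, by simpa using map_subtype_le _⟩
  show v ∈ ((Sylow.ofCard _ hc : Sylow r G) : Subgroup G)
  rw [Sylow.coe_ofCard]
  exact ⟨⟨v, hv⟩, hS (mem_zpowers _), rfl⟩

/-- `v` is in a conjugate of any Sylow subgroup. -/
theorem exists_conj_mem {r : ℕ} [Fact r.Prime] (R : Sylow r G) {v : G} (hp : PEl r v) :
    ∃ c : G, c⁻¹ * v * c ∈ (R : Subgroup G) := by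
  obtain ⟨R', hR'⟩ := hp.isPGroup.exists_le_sylow
  obtain ⟨c, rfl⟩ := MulAction.exists_smul_eq G R R'
  refine ⟨c, ?_⟩
  have h := hR' (mem_zpowers v)
  rw [Sylow.coe_subgroup_smul] at h
  exact GStructB.PElements.mem_conj_smul.mp h

theorem index_C_sub {H : Subgroup G} (g : H) : (C g).index = (C (g : G)).relIndex H := by
  rw [relIndex]
  congr 1
  ext x
  rw [mem_subgroupOf, mem_cent, mem_cent, Subtype.ext_iff]
  rfl

/-- If no class of a `p'`-element has size divisible by `p`, then `p'`-elements commute with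
`p`-elements, and all `p`-elements lie in each Sylow `p`-subgroup. -/
theorem pel_commute {K : Type*} [Group K] [Finite K] {p : ℕ} (hp : p.Prime)
    (h : ∀ g : K, (orderOf g).Coprime p → ¬ p ∣ (C g).index) :
    (∀ g w : K, (orderOf g).Coprime p → PEl p w → Commute g w) ∧
      ∀ (P : Sylow p K) (w : K), PEl p w → w ∈ (P : Subgroup K) := by
  haveI := Fact.mk hp
  obtain ⟨P⟩ : Nonempty (Sylow p K) := inferInstance
  have hN : normalizer ((P : Subgroup K) : Set K) = ⊤ := by
    refine GStructB.Cover.eq_top_of_forall_conj _ fun g => ?_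
    obtain ⟨u, v, rfl, huv, -, -, hv, hu⟩ := exists_pdecomp p hp g
    obtain ⟨R, hvR', hRC⟩ := exists_sylow_le (h u hu) (mem_cent.mpr huv.eq.symm) hv
    obtain ⟨c, rfl⟩ := MulAction.exists_smul_eq K P R
    have hvR : v ∈ ((c • P : Sylow p K) : Subgroup K) := hvR'
    refine ⟨c, ?_⟩
    rw [Sylow.coe_subgroup_smul] at hvR hRC
    have h1 : c⁻¹ * v * c ∈ (P : Subgroup K) := GStructB.PElements.mem_conj_smul.mp hvR
    have h2 : c⁻¹ * u * c ∈ centralizer ((P : Subgroup K) : Set K) := by
      refine mem_centralizer_iff.mpr fun y hy => ?_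
      have hy' : c * y * c⁻¹ ∈ C u := hRC (GStructB.PElements.mem_conj_smul.mpr (by
        rw [show c⁻¹ * (c * y * c⁻¹) * c = y by group]; exact hy))
      calc y * (c⁻¹ * u * c) = c⁻¹ * (c * y * c⁻¹ * u) * c := by group
        _ = c⁻¹ * (u * (c * y * c⁻¹)) * c := by rw [mem_cent.mp hy']
        _ = c⁻¹ * u * c * y := by group
    rw [show c⁻¹ * (u * v) * c = (c⁻¹ * u * c) * (c⁻¹ * v * c) by group]
    exact mul_mem (GStructB.Cover.centralizer_le_normalizer _ h2) (le_normalizer h1)
  haveI : (P : Subgroup K).Normal := normalizer_eq_top_iff.mp hN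
  have hall : ∀ (R : Sylow p K), (R : Subgroup K) = P := fun R => by
    obtain ⟨c, rfl⟩ := MulAction.exists_smul_eq K P R
    rw [Sylow.smul_eq_of_normal]
  have hmem : ∀ (R : Sylow p K) (w : K), PEl p w → w ∈ (R : Subgroup K) := fun R w hw => by
    obtain ⟨R', hR'⟩ := hw.isPGroup.exists_le_sylow
    rw [hall R, ← hall R']
    exact hR' (mem_zpowers w)
  refine ⟨fun g w hg hw => ?_, hmem⟩
  obtain ⟨R, -, hR⟩ := exists_sylow_le (h g hg) (one_mem _) (PEl.one p)
  exact (show Commute w g from mem_cent.mp (hR (hmem R w hw))).symm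

/-- The class size hypothesis. -/
structure Sizes (G : Type*) [Group G] (m n : ℕ) : Prop where
  hm : 1 < m
  hn : 1 < n
  hcop : m.Coprime n
  three : ∀ g : G, cs g = 1 ∨ cs g = m ∨ cs g = m * n
  ex_m : ∃ g : G, cs g = m
  ex_mn : ∃ g : G, cs g = m * n

variable {m n : ℕ}

theorem Sizes.cases (h : Sizes G m n) {g : G} (hg : g ∉ center G) : cs g = m ∨ cs g = m * n :=
  (h.three g).resolve_left fun e => hg (cs_eq_one_iff.mp e)

theorem Sizes.m_ne_mn (h : Sizes G m n) : m ≠ m * n := by
  intro e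
  have h2 : m * 1 < m * n := Nat.mul_lt_mul_of_pos_left h.hn (by have := h.hm; omega)
  omega

theorem Sizes.not_center_of_m (h : Sizes G m n) {g : G} (hg : cs g = m) : g ∉ center G := fun hz => by
  have h1 := cs_eq_one_iff.mpr hz
  have := h.hm
  omega

theorem Sizes.not_center_of_mn (h : Sizes G m n) {g : G} (hg : cs g = m * n) : g ∉ center G := fun hz => by
  have h1 := cs_eq_one_iff.mpr hz
  have h2 : m * 1 < m * n := Nat.mul_lt_mul_of_pos_left h.hn (by have := h.hm; omega)
  have := h.hm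
  omega

theorem Sizes.m_dvd (h : Sizes G m n) {g : G} (hg : g ∉ center G) : m ∣ cs g := by
  rcases h.cases hg with e | e <;> rw [e]
  exact dvd_mul_right m n

theorem Sizes.eq_mn_of_dvd (h : Sizes G m n) {g : G} (hd : m * n ∣ cs g) : cs g = m * n := by
  have hm0 := h.hm
  have h2 : m * 1 < m * n := Nat.mul_lt_mul_of_pos_left h.hn (by omega)
  rcases h.three g with e | e | e
  · rw [e] at hd; have := Nat.le_of_dvd one_pos hd; omega
  · rw [e] at hd; have := Nat.le_of_dvd (by omega) hd; omega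
  · exact e

theorem Sizes.eq_m_of_dvd (h : Sizes G m n) {g v : G} (hv : v ∉ center G) (hd : cs v ∣ cs g) (hg : cs g = m) :
    cs v = m := by
  rcases h.cases hv with e | e
  · exact e
  · rw [hg, e] at hd
    have := Nat.le_of_dvd (by have := h.hm; omega) hd
    have h2 : m * 1 < m * n := Nat.mul_lt_mul_of_pos_left h.hn (by have := h.hm; omega)
    omega

theorem Sizes.not_dvd_n (h : Sizes G m n) {p : ℕ} (hp : p.Prime) (hd : p ∣ m) : ¬ p ∣ n :=
  fun hn => hp.not_dvd_one (h.hcop ▸ Nat.dvd_gcd hd hn)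

theorem Sizes.not_dvd_m (h : Sizes G m n) {r : ℕ} (hr : r.Prime) (hd : r ∣ n) : ¬ r ∣ m :=
  fun hm => h.not_dvd_n hr hm hd

theorem Sizes.not_dvd_cs_m (h : Sizes G m n) {r : ℕ} (hr : r.Prime) (hd : r ∣ n) {x : G} (hx : cs x = m) :
    ¬ r ∣ (C x).index := by
  show ¬ r ∣ cs x
  rw [hx]; exact h.not_dvd_m hr hd

theorem Sizes.fac_m (h : Sizes G m n) {p : ℕ} (hp : p.Prime) (hd : p ∣ m) {g : G} (hg : g ∉ center G) :
    fac p (C g) + m.factorization p = (Nat.card G).factorization p := by
  have key : (C g).index.factorization p = m.factorization p := by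
    show (cs g).factorization p = m.factorization p
    rcases h.cases hg with e | e <;> rw [e]
    rw [Nat.factorization_mul (by have := h.hm; omega) (by have := h.hn; omega), Finsupp.coe_add, Pi.add_apply,
      Nat.factorization_eq_zero_of_not_dvd (h.not_dvd_n hp hd), add_zero]
  rw [← key]; exact fac_add_index p (C g)

theorem Sizes.fac_pos (h : Sizes G m n) {p : ℕ} (hp : p.Prime) (hd : p ∣ m) : 0 < m.factorization p :=
  hp.factorization_pos_of_dvd (by have := h.hm; omega) hd

theorem Sizes.fac_n (h : Sizes G m n) {r : ℕ} (hr : r.Prime) (hd : r ∣ n) {g : G} (hg : cs g = m * n) :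
    fac r (C g) + n.factorization r = (Nat.card G).factorization r := by
  have key : (C g).index.factorization r = n.factorization r := by
    show (cs g).factorization r = n.factorization r
    rw [hg, Nat.factorization_mul (by have := h.hm; omega) (by have := h.hn; omega), Finsupp.coe_add, Pi.add_apply,
      Nat.factorization_eq_zero_of_not_dvd (h.not_dvd_m hr hd), zero_add]
  rw [← key]; exact fac_add_index r (C g)

theorem Sizes.exists_pel (h : Sizes G m n) {p : ℕ} (hp : p.Prime) (hd : p ∣ m) :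
    ∃ v : G, PEl p v ∧ v ∉ center G := by
  haveI := Fact.mk hp
  obtain ⟨g, hg⟩ := h.ex_m
  have h1 := h.fac_m hp hd (h.not_center_of_m hg)
  have h2 : fac p (center G) ≤ fac p (C g) := fac_mono (center_le_C g)
  have h3 := h.fac_pos hp hd
  have h4 : fac p (⊤ : Subgroup G) = (Nat.card G).factorization p := by rw [fac, Subgroup.card_top]
  obtain ⟨v, -, hv, hvz⟩ := exists_pel_not_mem (p := p) (H := ⊤) (K := center G) (by omega)
  exact ⟨v, hv, hvz⟩

/-- Every centraliser of a noncentral element has a noncentral `p`-element. -/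
theorem Sizes.fac_center_lt (h : Sizes G m n) {p : ℕ} (hp : p.Prime) (hd : p ∣ m) {g : G} (hg : g ∉ center G) :
    fac p (center G) < fac p (C g) := by
  haveI := Fact.mk hp
  obtain ⟨v, hv, hvz⟩ := h.exists_pel hp hd
  have h1 := fac_lt_of_pel (center_le_C v) (self_mem_C v) hv hvz
  have h2 := h.fac_m hp hd hg
  have h3 := h.fac_m hp hd hvz
  omega

theorem Sizes.exists_pel_cent (h : Sizes G m n) {p : ℕ} (hp : p.Prime) (hd : p ∣ m) {g : G} (hg : g ∉ center G) :
    ∃ v ∈ C g, PEl p v ∧ v ∉ center G :=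
  haveI := Fact.mk hp
  exists_pel_not_mem (h.fac_center_lt hp hd hg)

/-- Coprime elements of a centraliser of maximal index are central in it. -/
theorem Sizes.C_le (h : Sizes G m n) {u v : G} (hu : cs u = m * n) (hv : v ∈ C u)
    (hc : (orderOf u).Coprime (orderOf v)) : C u ≤ C v := by
  have hcomm : Commute u v := (show Commute v u from mem_cent.mp hv).symm
  have he : C (u * v) = C u ⊓ C v := centralizer_mul_eq hcomm hc
  have hle : C (u * v) ≤ C u := he ▸ inf_le_left
  have h1 : cs (u * v) = m * n := h.eq_mn_of_dvd (hu ▸ index_dvd_of_le hle)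
  have := eq_of_le_of_cs hle (h1.trans hu.symm)
  rw [he] at this
  exact inf_eq_left.mp this

theorem Sizes.C_eq (h : Sizes G m n) {u v : G} (hu : cs u = m * n) (hv : cs v = m * n) (huv : v ∈ C u)
    (hc : (orderOf u).Coprime (orderOf v)) : C u = C v :=
  le_antisymm (h.C_le hu huv hc) (h.C_le hv (mem_C_comm.mp huv) hc.symm)

/-- With two primes, the centraliser of maximal index is abelian. -/
theorem Sizes.C_comm (h : Sizes G m n) {p q : ℕ} (hp : p.Prime) (hq : q.Prime) (hpq : p ≠ q) {u v : G}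
    (hup : PEl p u) (hvq : PEl q v) (hu : cs u = m * n) (hv : cs v = m * n) (huv : v ∈ C u) :
    ∀ a ∈ C u, C u ≤ C a := by
  have e := h.C_eq hu hv huv (hup.coprime hp hq hpq hvq)
  intro a ha
  obtain ⟨b, c, rfl, -, hb, hc, hcp, hbp⟩ := exists_pdecomp p hp a
  have hb' : b ∈ C u := zpowers_le.mpr ha hb
  have hc' : c ∈ C u := zpowers_le.mpr ha hc
  have h1 : C u ≤ C b := h.C_le hu hb' ((hup.coprime_right hbp).symm)
  have h2 : C u ≤ C c := e ▸ h.C_le hv (e ▸ hc') (hvq.coprime hq hp hpq.symm hcp)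
  exact fun x hx => mem_cent.mpr
    ((show Commute x b from mem_cent.mp (h1 hx)).mul_right (show Commute x c from mem_cent.mp (h2 hx))).eq

/-- Primes dividing no class size have central elements. -/
theorem Sizes.central_of_not_dvd (h : Sizes G m n) {t : ℕ} (ht : t.Prime) (h1 : ¬ t ∣ m) (h2 : ¬ t ∣ n)
    {v : G} (hv : PEl t v) : v ∈ center G := by
  haveI := Fact.mk ht
  have hall : ∀ g : G, ¬ t ∣ (C g).index := fun g hd => by
    rcases h.three g with e | e | e <;> simp only [cs] at e <;>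
      have hd' : t ∣ _ := e ▸ (show t ∣ (C g).index from hd)
    · exact ht.not_dvd_one hd'
    · exact h1 hd'
    · exact (ht.dvd_mul.mp hd').elim h1 h2
  obtain ⟨hcomm, hmem⟩ := pel_commute ht fun g _ => hall g
  rw [mem_center_iff]
  intro g
  obtain ⟨u, w, rfl, -, -, -, hw, hu⟩ := exists_pdecomp t ht g
  obtain ⟨R, -, hR⟩ := exists_sylow_le (hall v) (one_mem _) (PEl.one t)
  have hc1 : Commute w v := mem_cent.mp (hR (hmem R w hw))
  exact ((hcomm u v hu hv).mul_left hc1).eq

theorem Sizes.prime_cases (h : Sizes G m n) {t : ℕ} (ht : t.Prime) {v : G} (hv : PEl t v) (hvz : v ∉ center G) :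
    t ∣ m ∨ t ∣ n := by
  by_contra hcon
  push Not at hcon
  exact hvz (h.central_of_not_dvd ht hcon.1 hcon.2 hv)

/-- Relative index inside the centraliser of an element of class size `m`. -/
theorem Sizes.relIndex_cases (h : Sizes G m n) {x g : G} (hx : cs x = m) (hg : g ∈ C x)
    (hc : (orderOf x).Coprime (orderOf g)) : (C g).relIndex (C x) = 1 ∨ (C g).relIndex (C x) = n := by
  have hcomm : Commute x g := (show Commute g x from mem_cent.mp hg).symm
  have he : C (x * g) = C x ⊓ C g := centralizer_mul_eq hcomm hc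
  have hi : cs (x * g) = (C g).relIndex (C x) * m := by
    show (C (x * g)).index = _
    rw [he, ← hx, inf_comm, ← relIndex_mul_index (inf_le_right : C g ⊓ C x ≤ C x), inf_relIndex_right]
  have hm0 : 0 < m := by have := h.hm; omega
  have hxz := h.not_center_of_m hx
  rcases h.three (x * g) with e | e | e <;> rw [hi] at e
  · have h1 : m = 1 := Nat.eq_one_of_mul_eq_one_left e
    have := h.hm; omega
  · left; exact Nat.eq_of_mul_eq_mul_right hm0 (e.trans (one_mul m).symm)
  · right; exact Nat.eq_of_mul_eq_mul_right hm0 (e.trans (mul_comm m n))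

theorem Sizes.not_dvd_relIndex (h : Sizes G m n) {x g : G} (hx : cs x = m) (hg : g ∈ C x)
    (hc : (orderOf x).Coprime (orderOf g)) {q : ℕ} (hq : q.Prime) (hd : q ∣ m) : ¬ q ∣ (C g).relIndex (C x) := by
  rcases h.relIndex_cases hx hg hc with e | e <;> rw [e]
  · exact hq.not_dvd_one
  · exact h.not_dvd_n hq hd

/-- An element of class size `m` commuting with a coprime element whose centraliser shares a Sylow
`r`-subgroup with its own, for some prime `r` dividing `n`. -/
theorem Sizes.C_le_of_sylow (h : Sizes G m n) {x g : G} (hx : cs x = m) (hg : g ∈ C x)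
    (hc : (orderOf x).Coprime (orderOf g)) {r : ℕ} [Fact r.Prime] (hd : r ∣ n) (R : Sylow r G)
    (hRx : (R : Subgroup G) ≤ C x) (hRg : (R : Subgroup G) ≤ C g) : C x ≤ C g := by
  rcases h.relIndex_cases hx hg hc with e | e
  · exact relIndex_eq_one.mp e
  · exfalso
    apply R.not_dvd_index
    refine dvd_trans ?_ (index_dvd_of_le (le_inf hRg hRx))
    refine dvd_trans (e ▸ hd) ?_
    rw [← inf_relIndex_right]
    exact Dvd.intro _ (relIndex_mul_index inf_le_right)

end Cfsg.Agent.GroupStructure3.ThreeSizes
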