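import Mathlib
import Cfsg.Agent.GroupStructure3.ThreeSizes.Basic

/-!
The centraliser of a `π(m)`-element of class size `m` is abelian.
-/

set_option autoImplicit false
set_option linter.style.haveILetI false
set_option linter.deprecated false
set_option linter.unusedSectionVars false

namespace Cfsg.Agent.GroupStructure3.ThreeSizes

open Subgroup ClassGraph
open scoped commutatorElement Pointwise

variable {G : Type*} [Group G] [Finite G] {m n p : ℕ}

/-- A `π(m)`-element `x` of class size `m`. -/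
structure Special (m p : ℕ) (x : G) : Prop where
  hp : p.Prime
  hd : p ∣ m
  hpel : PEl p x
  hx : cs x = m

theorem Special.conj {x : G} (s : Special m p x) (c : G) : Special m p (c * x * c⁻¹) :=
  ⟨s.hp, s.hd, s.hpel.conj c, by rw [cs_conj]; exact s.hx⟩

variable (h : Sizes G m n) {x : G} (s : Special m p x)
include h s

theorem Special.cop {g : G} (hg : (orderOf g).Coprime p) : (orderOf x).Coprime (orderOf g) :=
  (s.hpel.coprime_right hg).symm

theorem Special.ne_of_dvd_n {r : ℕ} (hr : r.Prime) (hd : r ∣ n) : p ≠ r := fun e =>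
  h.not_dvd_n s.hp s.hd (e ▸ hd)

theorem Special.cop_pi {r : ℕ} (hr : r.Prime) (hd : r ∣ n) {v : G} (hv : PEl r v) :
    (orderOf x).Coprime (orderOf v) := s.hpel.coprime s.hp hr (s.ne_of_dvd_n h hr hd) hv

theorem Special.cop_of_pel {t : ℕ} (ht : t.Prime) (hne : p ≠ t) {v : G} (hv : PEl t v) :
    (orderOf v).Coprime p := by
  obtain ⟨k, hk⟩ := hv.orderOf_dvd
  exact (((Nat.coprime_primes ht s.hp).mpr hne.symm).pow_left k).coprime_dvd_left hk

/-- `p'`-elements of the centraliser commute with its `p`-elements. -/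
theorem Special.commute {g w : G} (hg : g ∈ C x) (hgp : (orderOf g).Coprime p) (hw : w ∈ C x)
    (hwp : PEl p w) : Commute g w := by
  have key := (pel_commute (K := C x) s.hp fun k hk => by
    rw [index_C_sub]
    rw [← Subgroup.orderOf_coe] at hk
    exact h.not_dvd_relIndex s.hx k.2 (s.cop h hk) s.hp s.hd).1 ⟨g, hg⟩ ⟨w, hw⟩
    (by rwa [Subgroup.orderOf_mk]) (PEl.sub (g := (⟨w, hw⟩ : C x)) hwp)
  exact key.map (C x).subtype

/-- The centraliser of a `π(n)`-element of class size `m` is a conjugate of `C x`. -/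
theorem Special.pi_m_conj {r : ℕ} (hr : r.Prime) (hd : r ∣ n) {v : G} (hv : PEl r v) (hvm : cs v = m) :
    ∃ c : G, C v = C (c * x * c⁻¹) := by
  haveI := Fact.mk hr
  obtain ⟨R, hvR, hRv⟩ := exists_sylow_le (h.not_dvd_cs_m hr hd hvm) (self_mem_C v) hv
  obtain ⟨c, hc⟩ := exists_conj_le (h.not_dvd_cs_m hr hd s.hx) R
  have hR' : (R : Subgroup G) ≤ C (c⁻¹ * x * c⁻¹⁻¹) := fun y hy => (C_conj c⁻¹ x).mpr (by simpa using hc y hy)
  refine ⟨c⁻¹, (eq_of_le_of_cs ?_ (by rw [cs_conj, s.hx, hvm])).symm⟩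
  exact h.C_le_of_sylow (by rw [cs_conj, s.hx]) (hR' hvR) ((s.conj c⁻¹).cop_pi h hr hd hv) hd R hR' hRv

/-- No `π(n)`-element of the centraliser has the largest class size. -/
theorem Special.pi_not_mn {r : ℕ} (hr : r.Prime) (hd : r ∣ n) {y : G} (hy : y ∈ C x) (hyr : PEl r y) :
    cs y ≠ m * n := by
  intro hymn
  haveI := Fact.mk hr
  have hCy : C y ≤ C x := h.C_le hymn (mem_C_comm.mp hy) (s.cop_pi h hr hd hyr).symm
  have hrel : (C y).relIndex (C x) = n := by
    have h1 := relIndex_mul_index hCy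
    simp only [cs] at hymn
    have h2 := s.hx
    simp only [cs] at h2
    rw [h2, hymn, mul_comm m n] at h1
    exact Nat.eq_of_mul_eq_mul_right (by have := h.hm; omega) h1
  -- the Sylow subgroups of `C x` for primes of `m` are abelian
  have hab : ∀ {q : ℕ}, q.Prime → q ∣ m → ∀ (Q : Sylow q (C x)), ∀ a ∈ (Q : Subgroup (C x)),
      ∀ b ∈ (Q : Subgroup (C x)), Commute a b := by
    intro q hq hqd Q a ha b hb
    haveI := Fact.mk hq
    obtain ⟨c, hc⟩ := exists_conj_le (A := (C y).subgroupOf (C x)) (by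
      show ¬ q ∣ (C y).relIndex (C x)
      rw [hrel]; exact h.not_dvd_n hq hqd) Q
    have key : ∀ a ∈ (Q : Subgroup (C x)), (((c * a * c⁻¹ : C x) : G) ∈ C y) ∧ PEl q (a : G) := fun a ha =>
      ⟨hc a ha, (PEl.of_isPGroup Q.2 ha).coe⟩
    obtain ⟨ha1, ha2⟩ := key a ha
    obtain ⟨hb1, hb2⟩ := key b hb
    have hcop : (orderOf y).Coprime (orderOf ((c * b * c⁻¹ : C x) : G)) :=
      hyr.coprime hr hq (fun e => h.not_dvd_n hq hqd (e ▸ hd)) (by push_cast; exact hb2.conj _)
    have e : Commute ((c * a * c⁻¹ : C x) : G) ((c * b * c⁻¹ : C x) : G) := mem_cent.mp (h.C_le hymn hb1 hcop ha1)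
    have e2 : Commute (c * a * c⁻¹) (c * b * c⁻¹) := Subtype.ext e
    have e3 := e2.map (MulAut.conj c⁻¹).toMonoidHom
    simpa [mul_assoc] using e3
  -- hence these Sylow subgroups are central
  have hp_central : ∀ v ∈ C x, PEl p v → C x ≤ C v := by
    intro v hv hvp g hg
    haveI := Fact.mk s.hp
    obtain ⟨u, w, rfl, -, hu, hw, hwp, hup⟩ := exists_pdecomp p s.hp g
    have hu' : u ∈ C x := zpowers_le.mpr hg hu
    have hw' : w ∈ C x := zpowers_le.mpr hg hw
    obtain ⟨Q⟩ : Nonempty (Sylow p (C x)) := inferInstance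
    obtain ⟨-, hmem⟩ := pel_commute (K := C x) s.hp fun k hk => by
      rw [index_C_sub]
      rw [← Subgroup.orderOf_coe] at hk
      exact h.not_dvd_relIndex s.hx k.2 (s.cop h hk) s.hp s.hd
    have h1 : Commute (⟨w, hw'⟩ : C x) ⟨v, hv⟩ := hab s.hp s.hd Q _ (hmem Q _ (PEl.sub hwp)) _ (hmem Q _ (PEl.sub hvp))
    exact mem_cent.mpr ((s.commute h hu' hup hv hvp).mul_left (h1.map (C x).subtype)).eq
  have hσ : ∀ {q : ℕ}, q.Prime → q ∣ m → ∀ v ∈ C x, PEl q v → C x ≤ C v := by
    intro q hq hqd v hv hvq g hg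
    rcases eq_or_ne q p with rfl | hne
    · exact hp_central v hv hvq hg
    haveI := Fact.mk hq
    haveI := Fact.mk s.hp
    have hyp : ∀ k : C x, (orderOf k).Coprime q → ¬ q ∣ (C k).index := by
      intro k hk
      obtain ⟨u, w, he, huw, hu, hw, hwp, hup⟩ := exists_pdecomp p s.hp (k : G)
      have hu' : u ∈ C x := zpowers_le.mpr k.2 hu
      have hw' : w ∈ C x := zpowers_le.mpr k.2 hw
      rw [index_C_sub, show (C (k : G)).relIndex (C x) = (C u).relIndex (C x) from ?_]
      · exact h.not_dvd_relIndex s.hx hu' (s.cop h hup) hq hqd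
      · rw [relIndex, relIndex]
        congr 1
        ext z
        rw [mem_subgroupOf, mem_subgroupOf, he]
        have hzw : Commute (z : G) w := mem_cent.mp (hp_central w hw' hwp z.2)
        constructor
        · intro hz
          have h1 : Commute (z : G) (u * w) := mem_cent.mp hz
          have := h1.mul_right hzw.inv_right
          rw [mul_inv_cancel_right] at this
          exact mem_cent.mpr this.eq
        · exact fun hz => mem_cent.mpr ((show Commute (z : G) u from mem_cent.mp hz).mul_right hzw).eq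
    obtain ⟨hcomm, hmem⟩ := pel_commute (K := C x) hq hyp
    obtain ⟨u, w, rfl, -, hu, hw, hwq, huq⟩ := exists_pdecomp q hq g
    have hu' : u ∈ C x := zpowers_le.mpr hg hu
    have hw' : w ∈ C x := zpowers_le.mpr hg hw
    obtain ⟨Q⟩ : Nonempty (Sylow q (C x)) := inferInstance
    have h1 : Commute (⟨w, hw'⟩ : C x) ⟨v, hv⟩ := hab hq hqd Q _ (hmem Q _ (PEl.sub hwq)) _ (hmem Q _ (PEl.sub hvq))
    have h2 : Commute (⟨u, hu'⟩ : C x) ⟨v, hv⟩ :=
      hcomm _ _ (by rwa [Subgroup.orderOf_mk]) (PEl.sub hvq)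
    exact mem_cent.mpr ((h2.mul_left h1).map (C x).subtype).eq
  -- hence the conjugates of `C x` cover `G`
  have hpi : ∀ {t : ℕ}, t.Prime → t ∣ n → ∀ {v : G}, PEl t v → v ∉ center G →
      ∃ c : G, C v ≤ C (c * x * c⁻¹) := by
    intro t ht htn v hv hvz
    haveI := Fact.mk ht
    rcases h.cases hvz with e | e
    · obtain ⟨c, hc⟩ := s.pi_m_conj h ht htn hv e
      exact ⟨c, hc.le⟩
    · obtain ⟨R, hvR⟩ := hv.isPGroup.exists_le_sylow
      obtain ⟨c, hc⟩ := exists_conj_le (h.not_dvd_cs_m ht htn s.hx) R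
      refine ⟨c⁻¹, h.C_le e ?_ ((s.conj c⁻¹).cop_pi h ht htn hv).symm⟩
      exact mem_C_comm.mp ((C_conj c⁻¹ x).mpr (by simpa using hc v (hvR (mem_zpowers v))))
  have htop : C x = ⊤ := by
    refine GStructB.Cover.eq_top_of_forall_conj _ fun g => ?_
    by_cases hgz : g ∈ center G
    · exact ⟨1, by simpa using center_le_C x hgz⟩
    obtain ⟨t, ht, v, hv, hvt, hvz⟩ := exists_component hgz
    suffices ∃ c : G, C v ≤ C (c * x * c⁻¹) by
      obtain ⟨c, hc⟩ := this
      exact ⟨c, (C_conj c x).mp (hc (C_le_of_mem_zpowers hv (self_mem_C g)))⟩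
    rcases h.prime_cases ht hvt hvz with htm | htn
    · haveI := Fact.mk ht
      have hσ' : ∀ (c : G), v ∈ C (c * x * c⁻¹) → C (c * x * c⁻¹) ≤ C v := fun c hc z hz => by
        have h1 := hσ ht htm (c⁻¹ * v * c) ((C_conj c x).mp hc) (by simpa using hvt.conj c⁻¹) ((C_conj c x).mp hz)
        have h2 := ((show Commute (c⁻¹ * z * c) (c⁻¹ * v * c) from mem_cent.mp h1).map (MulAut.conj c).toMonoidHom)
        refine mem_cent.mpr ?_
        simpa [mul_assoc] using h2.eq
      rcases h.cases hvz with e | e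
      · obtain ⟨R, hyR, hRC⟩ := exists_sylow_le (h.not_dvd_cs_m hr hd s.hx) hy hyr
        obtain ⟨c, hc⟩ := exists_conj_le (h.not_dvd_cs_m hr hd e) R
        have hvc : v ∈ C (c * x * c⁻¹) := by
          have h1 : v ∈ C (c * y * c⁻¹) := mem_C_comm.mp (hc y hyR)
          exact (C_conj c x).mpr (hCy ((C_conj c y).mp h1))
        exact ⟨c, (eq_of_le_of_cs (hσ' c hvc) (by rw [cs_conj, s.hx, e])).ge⟩
      · exfalso
        have h1 := h.fac_n hr hd e
        have h2 := h.fac_n hr hd hymn
        have h3 := fac_lt_of_pel (center_le_C y) (self_mem_C y) hyr (h.not_center_of_mn hymn)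
        obtain ⟨y', hy', hy'r, hy'z⟩ := exists_pel_not_mem (p := r) (H := C v) (K := center G) (by omega)
        obtain ⟨c, hc⟩ := hpi hr hd hy'r hy'z
        have h4 : C (c * x * c⁻¹) ≤ C v := hσ' c (hc (mem_C_comm.mp hy'))
        have h5 := index_dvd_of_le h4
        rw [show (C v).index = m * n from e, show (C (c * x * c⁻¹)).index = m from (cs_conj c x).trans s.hx] at h5
        have := Nat.le_of_dvd (by have := h.hm; omega) h5
        have h6 : m * 1 < m * n := Nat.mul_lt_mul_of_pos_left h.hn (by have := h.hm; omega)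
        omega
    · exact hpi ht htn hvt hvz
  have h1 := s.hx
  simp only [cs] at h1
  rw [show centralizer ({x} : Set G) = ⊤ from htop, index_top] at h1
  have := h.hm
  omega

/-- Noncentral `π(n)`-elements of the centraliser have the same centraliser. -/
theorem Special.pi_eq {r : ℕ} (hr : r.Prime) (hd : r ∣ n) {v : G} (hv : v ∈ C x) (hvr : PEl r v)
    (hvz : v ∉ center G) : C v = C x := by
  haveI := Fact.mk hr
  have hvm : cs v = m := (h.cases hvz).resolve_right (s.pi_not_mn h hr hd hv hvr)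
  obtain ⟨c, hc⟩ := s.pi_m_conj h hr hd hvr hvm
  have s' := s.conj c
  obtain ⟨R, -, hR⟩ := exists_sylow_le (h.not_dvd_cs_m hr hd hvm) (self_mem_C v) hvr
  have hxc : x ∈ C (c * x * c⁻¹) := hc ▸ mem_C_comm.mp hv
  have hRx : (R : Subgroup G) ≤ C x := fun w hw =>
    mem_cent.mpr (s'.commute h (hc ▸ hR hw) (s.cop_of_pel h hr (s.ne_of_dvd_n h hr hd) (PEl.of_isPGroup R.2 hw))
      hxc s.hpel).eq
  exact (eq_of_le_of_cs (h.C_le_of_sylow s.hx hv (s.cop_pi h hr hd hvr) hd R hRx hR) (s.hx.trans hvm.symm)).symm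

theorem Special.le_C {g : G} (hg : g ∈ C x) : C x ≤ C g := by
  intro z hz
  refine mem_C_comm.mpr (mem_of_primary fun t ht v hv hvt => ?_)
  have hvx : v ∈ C x := zpowers_le.mpr hg hv
  suffices C x ≤ C v from mem_C_comm.mp (this hz)
  by_cases hvz : v ∈ center G
  · exact fun w _ => mem_cent.mpr (mem_center_iff.mp hvz w)
  rcases h.prime_cases ht hvt hvz with htm | htn
  · obtain ⟨r, hr, hrn⟩ := Nat.exists_prime_and_dvd (show n ≠ 1 by have := h.hn; omega)
    haveI := Fact.mk hr
    obtain ⟨R, -, hRx⟩ := exists_sylow_le (h.not_dvd_cs_m hr hrn s.hx) (one_mem _) (PEl.one r)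
    have hRv : (R : Subgroup G) ≤ C v := fun y hy => by
      by_cases hyz : y ∈ center G
      · exact center_le_C v hyz
      · exact mem_C_comm.mp (show v ∈ C y from (s.pi_eq h hr hrn (hRx hy) (PEl.of_isPGroup R.2 hy) hyz).ge hvx)
    rcases eq_or_ne t p with rfl | hne
    · have hnd : ¬ r ∣ cs v := fun hd => R.not_dvd_index (hd.trans (index_dvd_of_le hRv))
      have hvm : cs v = m := (h.cases hvz).resolve_right fun e => hnd (e ▸ hrn.mul_left m)
      -- a noncentral element of `R`
      obtain ⟨y, hy, hyz⟩ : ∃ y ∈ (R : Subgroup G), y ∉ center G := by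
        by_contra hcon
        push Not at hcon
        obtain ⟨g₀, hg₀⟩ := h.ex_mn
        refine R.not_dvd_index (dvd_trans ?_ (index_dvd_of_le (hcon : (R : Subgroup G) ≤ center G)))
        exact (show r ∣ cs g₀ from hg₀ ▸ hrn.mul_left m).trans (index_dvd_of_le (center_le_C g₀))
      have hy' := s.pi_eq h hr hrn (hRx hy) (PEl.of_isPGroup R.2 hy) hyz
      have hym : cs y = m := by
        show (C y).index = m
        rw [hy']; exact s.hx
      have hle := h.C_le_of_sylow (r := r) hym (hy'.ge hvx)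
        (hvt.coprime s.hp hr (s.ne_of_dvd_n h hr hrn) (PEl.of_isPGroup R.2 hy)).symm hrn R (hy'.ge.trans' hRx) hRv
      rw [hy'] at hle
      exact hle
    · exact h.C_le_of_sylow s.hx hvx (s.cop h (s.cop_of_pel h ht hne.symm hvt)) hrn R hRx hRv
  · exact (s.pi_eq h ht htn hvx hvt hvz).ge

/-- The centraliser is abelian and is the centraliser of each of its noncentral elements. -/
theorem Special.eq {g : G} (hg : g ∈ C x) (hgz : g ∉ center G) : C g = C x := by
  have hle := s.le_C h hg
  rcases h.cases hgz with e | e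
  · exact (eq_of_le_of_cs hle (s.hx.trans e.symm)).symm
  · exfalso
    have h5 := index_dvd_of_le hle
    rw [show (C g).index = m * n from e, show (C x).index = m from s.hx] at h5
    have := Nat.le_of_dvd (by have := h.hm; omega) h5
    have h6 : m * 1 < m * n := Nat.mul_lt_mul_of_pos_left h.hn (by have := h.hm; omega)
    omega

end Cfsg.Agent.GroupStructure3.ThreeSizes
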