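import Mathlib
import Cfsg.Agent.GroupStructure3.ThreeSizes.Basic

/-!
Elementary abelian `p`-sections acting without fixed points modulo the centre; central sections of
`p`-subgroups; the exponent of a prime of `m`.
-/

set_option autoImplicit false
set_option linter.style.haveILetI false
set_option linter.deprecated false
set_option linter.unusedSectionVars false

namespace Cfsg.Agent.GroupStructure3.ThreeSizes

open Subgroup ClassGraph
open scoped commutatorElement Pointwise IsMulCommutative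

theorem prod_orbit_fixed {V : Type*} [CommGroup V] {q : ℕ} (φ : MulAut V) (hφ : φ ^ q = 1) (v : V) :
    φ (∏ t ∈ Finset.range q, (φ ^ t) v) = ∏ t ∈ Finset.range q, (φ ^ t) v := by
  rw [map_prod]
  have h : ∀ t, φ ((φ ^ t) v) = (φ ^ (t + 1)) v := fun t => by rw [pow_succ', MulAut.mul_apply]
  simp only [h]
  have h1 := Finset.prod_range_succ' (fun t => (φ ^ t) v) q
  have h2 := Finset.prod_range_succ (fun t => (φ ^ t) v) q
  rw [h1] at h2
  simpa [hφ] using h2

/-- The norm trick for two commuting automorphisms of prime order. -/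
theorem norm_trick {V : Type*} [CommGroup V] {q : ℕ} (hq : q.Prime) (α β : MulAut V) (hαβ : Commute α β)
    (hα : α ^ q = 1) (hβ : β ^ q = 1) (W : Subgroup V) (h1 : ∀ v, β v = v → v ∈ W)
    (h2 : ∀ (j : ℕ) (v : V), (α * β ^ j) v = v → v ∈ W) (hW : ∀ w ∈ W, α w = w) (v : V) : v ^ q ∈ W := by
  classical
  set u := ∏ j ∈ Finset.range q, (β ^ j) v with hu
  have huW : u ∈ W := h1 _ (prod_orbit_fixed β hβ v)
  have hN : ∀ j, (∏ t ∈ Finset.range q, ((α * β ^ j) ^ t) v) ∈ W := fun j =>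
    h2 j _ (prod_orbit_fixed _ (by
      rw [(hαβ.pow_right j).mul_pow, hα, ← pow_mul, mul_comm j q, pow_mul, hβ, one_pow, mul_one]) v)
  have hαu : ∀ t : ℕ, (α ^ t) u = u := fun t => by
    induction t with
    | zero => simp
    | succ t ih => rw [pow_succ, MulAut.mul_apply, hW u huW, ih]
  have hin : ∀ t ∈ Finset.range q, t ≠ 0 → (∏ j ∈ Finset.range q, ((α * β ^ j) ^ t) v) = u := by
    intro t ht ht0
    have e : ∀ j, ((α * β ^ j) ^ t) v = (α ^ t) ((β ^ (j * t % q)) v) := fun j => by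
      rw [(hαβ.pow_right j).mul_pow, ← pow_mul, MulAut.mul_apply, ← pow_mod_orderOf β (j * t)]
      congr 2
      have ho : orderOf β ∣ q := orderOf_dvd_of_pow_eq_one hβ
      rw [← pow_mod_orderOf β (j * t % q), Nat.mod_mod_of_dvd _ ho]
    simp only [e]
    rw [← map_prod]
    have hbij : (∏ j ∈ Finset.range q, (β ^ (j * t % q)) v) = u := by
      have hinj : Set.InjOn (fun j => j * t % q) (Finset.range q : Set ℕ) := fun a ha b hb hab => by
        simp only [Finset.coe_range, Set.mem_Iio] at ha hb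
        have hc : Nat.gcd q t = 1 :=
          (hq.coprime_iff_not_dvd.mpr fun hd => by
            have := Nat.le_of_dvd (Nat.pos_of_ne_zero ht0) hd
            have := Finset.mem_range.mp ht
            omega).gcd_eq_one
        have h3 : a ≡ b [MOD q] := Nat.ModEq.cancel_right_of_coprime hc hab
        have h4 : a % q = b % q := h3
        rwa [Nat.mod_eq_of_lt ha, Nat.mod_eq_of_lt hb] at h4
      have himg : (Finset.range q).image (fun j => j * t % q) = Finset.range q :=
        Finset.eq_of_subset_of_card_le (by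
          intro x hx
          obtain ⟨j, -, rfl⟩ := Finset.mem_image.mp hx
          exact Finset.mem_range.mpr (Nat.mod_lt _ hq.pos)) (by rw [Finset.card_image_of_injOn hinj])
      conv_rhs => rw [hu, ← himg, Finset.prod_image hinj]
    rw [hbij, hαu]
  have key : (∏ j ∈ Finset.range q, ∏ t ∈ Finset.range q, ((α * β ^ j) ^ t) v) = v ^ q * u ^ (q - 1) := by
    rw [Finset.prod_comm, ← Finset.mul_prod_erase _ _ (Finset.mem_range.mpr hq.pos)]
    congr 1
    · simp
    · rw [Finset.prod_congr rfl fun t ht => hin t (Finset.mem_of_mem_erase ht) (Finset.ne_of_mem_erase ht),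
        Finset.prod_const, Finset.card_erase_of_mem (Finset.mem_range.mpr hq.pos), Finset.card_range]
  have h3 : (∏ j ∈ Finset.range q, ∏ t ∈ Finset.range q, ((α * β ^ j) ^ t) v) ∈ W :=
    W.prod_mem fun j _ => hN j
  rw [key] at h3
  exact (W.mul_mem_cancel_right (pow_mem huW _)).mp h3

variable {G : Type*} [Group G] [Finite G] {m n p : ℕ}

theorem PEl.mem_center_of_pow {r : ℕ} (hr : r.Prime) (hp : p.Prime) (hne : r ≠ p) {k : G} (hk : PEl r k)
    (h : k ^ p ∈ center G) : k ∈ center G := by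
  obtain ⟨a, ha⟩ := hk
  exact ClassGraph.mem_of_pow_mem (((Nat.coprime_primes hr hp).mpr hne).pow_left a) (ha ▸ one_mem _) h

theorem mem_normalizer_of_conj {P K : Subgroup G} (h : ∀ g ∈ P, ∀ k ∈ K, g * k * g⁻¹ ∈ K) :
    P ≤ normalizer (K : Set G) := fun g hg => mem_normalizer_iff.mpr fun k =>
  ⟨h g hg k, fun hk => by simpa [mul_assoc] using h g⁻¹ (inv_mem hg) _ hk⟩

/-- An elementary abelian section acting without fixed points modulo the centre is cyclic. -/
theorem relIndex_le_of_fpf (hp : p.Prime) {P P0 K : Subgroup G} (hnorm : ∀ g ∈ P, ∀ k ∈ K, g * k * g⁻¹ ∈ K)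
    (hKc : ∀ a ∈ K, ∀ b ∈ K, Commute a b) (hcen : ∀ g ∈ P0, ∀ k ∈ K, Commute g k)
    (hcomm : ∀ g ∈ P, ∀ h ∈ P, g * h * g⁻¹ * h⁻¹ ∈ P0) (hpow : ∀ g ∈ P, g ^ p ∈ P0)
    (hfix : ∀ g ∈ P, g ∉ P0 → ∀ k ∈ K, Commute g k → k ∈ center G)
    (hcop : ∀ k ∈ K, k ^ p ∈ center G → k ∈ center G) (hne : ∃ k ∈ K, k ∉ center G) :
    P0.relIndex P ≤ p := by
  classical
  haveI : IsMulCommutative K := ⟨⟨fun a b => Subtype.ext (hKc a a.2 b b.2)⟩⟩
  haveI : (P0.subgroupOf P).Normal := ⟨fun a ha g => by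
    have h1 : (g : G) * a * (g : G)⁻¹ * (a : G)⁻¹ ∈ P0 := hcomm g g.2 a a.2
    have h2 := mul_mem h1 (show (a : G) ∈ P0 from ha)
    rw [inv_mul_cancel_right] at h2
    exact h2⟩
  by_contra hlt
  push Not at hlt
  rw [relIndex, Subgroup.index_eq_card] at hlt
  obtain ⟨x, hx⟩ : ∃ x : P ⧸ P0.subgroupOf P, x ≠ 1 := by
    by_contra hcon
    push Not at hcon
    haveI : Subsingleton (P ⧸ P0.subgroupOf P) := ⟨fun a b => by rw [hcon a, hcon b]⟩
    rw [Nat.card_unique] at hlt
    exact absurd hlt (by have := hp.one_lt; omega)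
  have hpow' : ∀ x : P ⧸ P0.subgroupOf P, x ^ p = 1 := fun x => by
    obtain ⟨g, rfl⟩ := QuotientGroup.mk_surjective x
    rw [← QuotientGroup.mk_pow, QuotientGroup.eq_one_iff, mem_subgroupOf]
    simpa using hpow g g.2
  obtain ⟨y, hy⟩ : ∃ y : P ⧸ P0.subgroupOf P, y ∉ zpowers x := by
    by_contra hcon
    push Not at hcon
    have h1 : Nat.card (zpowers x) = Nat.card (P ⧸ P0.subgroupOf P) := by
      rw [show zpowers x = ⊤ from eq_top_iff.mpr fun y _ => hcon y, Subgroup.card_top]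
    rw [Nat.card_zpowers] at h1
    have := Nat.le_of_dvd hp.pos (orderOf_dvd_of_pow_eq_one (hpow' x))
    omega
  obtain ⟨a, rfl⟩ := QuotientGroup.mk_surjective x
  obtain ⟨b, rfl⟩ := QuotientGroup.mk_surjective y
  let φ : P →* MulAut K := (normalizerMonoidHom K).comp (inclusion (mem_normalizer_of_conj hnorm))
  have hval : ∀ (g : P) (k : K), ((φ g k : K) : G) = (g : G) * k * (g : G)⁻¹ := fun _ _ => rfl
  have hker : ∀ g : P, (g : G) ∈ P0 → φ g = 1 := fun g hg => MulEquiv.ext fun k => Subtype.ext (by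
    rw [hval, (hcen g hg k k.2).eq, mul_inv_cancel_right]; rfl)
  have hcab : Commute (φ a) (φ b) := by
    have h1 := hker (a * b * a⁻¹ * b⁻¹) (hcomm a a.2 b b.2)
    rw [map_mul, map_mul, map_mul, map_inv, map_inv, mul_inv_eq_one, mul_inv_eq_iff_eq_mul] at h1
    exact h1
  have hfix' : ∀ g : P, (g : G) ∉ P0 → ∀ k : K, φ g k = k → k ∈ (center G).subgroupOf K := fun g hg k hk => by
    have h1 := congrArg Subtype.val hk
    rw [hval, mul_inv_eq_iff_eq_mul] at h1
    exact hfix g g.2 hg k k.2 h1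
  obtain ⟨k, hk, hkz⟩ := hne
  refine hkz (hcop k hk ?_)
  refine norm_trick hp (φ a) (φ b) hcab (by rw [← map_pow]; exact hker _ (by simpa using hpow a a.2))
    (by rw [← map_pow]; exact hker _ (by simpa using hpow b b.2)) ((center G).subgroupOf K) ?_ ?_ ?_ ⟨k, hk⟩
  · refine hfix' b fun hb => hy ?_
    rw [(QuotientGroup.eq_one_iff b).mpr hb]
    exact one_mem _
  · intro j
    rw [← map_pow, ← map_mul]
    refine hfix' _ fun hab => ?_
    have h1 : (QuotientGroup.mk a : P ⧸ P0.subgroupOf P) * QuotientGroup.mk b ^ j = 1 := by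
      rw [← QuotientGroup.mk_pow, ← QuotientGroup.mk_mul]; exact (QuotientGroup.eq_one_iff _).mpr hab
    by_cases hj : p ∣ j
    · obtain ⟨i, rfl⟩ := hj
      rw [pow_mul, hpow', one_pow, mul_one] at h1
      exact hx h1
    · apply hy
      refine mem_of_pow_mem (hp.coprime_iff_not_dvd.mpr hj) (by rw [hpow']; exact one_mem _) ?_
      rw [eq_inv_of_mul_eq_one_right h1]
      exact inv_mem (mem_zpowers _)
  · intro w hw
    refine Subtype.ext ?_
    rw [hval, mem_center_iff.mp (show (w : G) ∈ center G from hw) a, mul_inv_cancel_right]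

/-- A noncentral element of `T`, central modulo the centre in the `p`-group `P`. -/
theorem exists_central_mod (hp : p.Prime) {P T : Subgroup G} (hP : IsPGroup p P) (hTP : T ≤ P)
    (hnorm : ∀ g ∈ P, ∀ t ∈ T, g * t * g⁻¹ ∈ T) (hne : ∃ t ∈ T, t ∉ center G) :
    ∃ w ∈ T, w ∉ center G ∧ w ^ p ∈ center G ∧ ∀ g ∈ P, g * w * g⁻¹ * w⁻¹ ∈ center G := by
  haveI := Fact.mk hp
  haveI : ((center G).subgroupOf P).Normal := inferInstance
  set π := QuotientGroup.mk' ((center G).subgroupOf P) with hπ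
  haveI : (T.subgroupOf P).Normal := ⟨fun a ha g => hnorm g g.2 a ha⟩
  set N := (T.subgroupOf P).map π with hN
  haveI : N.Normal := Subgroup.Normal.map inferInstance π (QuotientGroup.mk'_surjective _)
  have hQ : IsPGroup p (P ⧸ (center G).subgroupOf P) := hP.to_quotient _
  haveI : Group.IsNilpotent (P ⧸ (center G).subgroupOf P) := hQ.isNilpotent
  have hNb : N ≠ ⊥ := fun e => by
    obtain ⟨t, ht, htz⟩ := hne
    have h1 : π ⟨t, hTP ht⟩ ∈ N := mem_map_of_mem _ ht
    rw [e, mem_bot, hπ, QuotientGroup.mk'_apply, QuotientGroup.eq_one_iff] at h1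
    exact htz h1
  have hZb := Cores.inf_center_ne_bot hNb
  have hdvd : p ∣ Nat.card (N ⊓ center (P ⧸ (center G).subgroupOf P) : Subgroup _) := by
    obtain ⟨k, hk⟩ := IsPGroup.iff_card.mp (hQ.to_subgroup (N ⊓ center (P ⧸ (center G).subgroupOf P)))
    rcases k with - | k
    · exact absurd (Subgroup.card_eq_one.mp (by rw [hk, pow_zero])) hZb
    · rw [hk]; exact Dvd.intro_left _ (pow_succ p k).symm
  obtain ⟨⟨z, hzN, hzC⟩, hz⟩ := exists_prime_orderOf_dvd_card' p hdvd
  rw [← Subgroup.orderOf_coe] at hz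
  obtain ⟨w, hwT, rfl⟩ := hzN
  change orderOf (π w) = p at hz
  refine ⟨w, hwT, fun hwz => ?_, ?_, fun g hg => ?_⟩
  · have h1 : π w = 1 := (QuotientGroup.eq_one_iff w).mpr hwz
    rw [h1, orderOf_one] at hz
    exact hp.one_lt.ne hz
  · have h1 : π (w ^ p) = 1 := by rw [map_pow, ← hz, pow_orderOf_eq_one]
    have h2 := (QuotientGroup.eq_one_iff _).mp h1
    rw [mem_subgroupOf] at h2
    simpa using h2
  · have h0 : π ⟨g, hg⟩ * π w = π w * π ⟨g, hg⟩ := mem_center_iff.mp hzC _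
    have h1 : π (⟨g, hg⟩ * w * ⟨g, hg⟩⁻¹ * w⁻¹) = 1 := by
      rw [map_mul, map_mul, map_mul, map_inv, map_inv, h0, mul_inv_cancel_right, mul_inv_cancel]
    have h2 := (QuotientGroup.eq_one_iff _).mp h1
    rw [mem_subgroupOf] at h2
    simpa using h2

/-- `w` is central in `P` modulo the centre. -/
structure CentralMod (P : Subgroup G) (p : ℕ) (w : G) : Prop where
  mem : w ∈ P
  not_center : w ∉ center G
  pow : w ^ p ∈ center G
  comm : ∀ g ∈ P, g * w * g⁻¹ * w⁻¹ ∈ center G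

variable {P : Subgroup G} {w : G}

theorem CentralMod.conj (hw : CentralMod P p w) {g : G} (hg : g ∈ P) :
    ∃ z ∈ center G, g * w * g⁻¹ = w * z := by
  refine ⟨_, hw.comm g hg, ?_⟩
  rw [mem_center_iff.mp (hw.comm g hg) w, inv_mul_cancel_right]

theorem CentralMod.C_conj_mem (hw : CentralMod P p w) {g : G} (hg : g ∈ P) {v : G} (hv : v ∈ C w) :
    g * v * g⁻¹ ∈ C w := by
  obtain ⟨z, hz, e⟩ := hw.conj hg
  have h1 : g * v * g⁻¹ ∈ C (g * w * g⁻¹) := (ThreeSizes.C_conj g w).mpr (by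
    rw [show g⁻¹ * (g * v * g⁻¹) * g = v by group]; exact hv)
  rwa [e, C_mul_central w hz] at h1

theorem CentralMod.comm_mem_C (hw : CentralMod P p w) {g h : G} (hg : g ∈ P) (hh : h ∈ P) :
    g * h * g⁻¹ * h⁻¹ ∈ C w := by
  let S : P →* center G :=
    { toFun := fun g => ⟨(g : G) * w * (g : G)⁻¹ * w⁻¹, hw.comm g g.2⟩
      map_one' := Subtype.ext (by simp)
      map_mul' := fun a b => Subtype.ext (by
        obtain ⟨z, hz, e⟩ := hw.conj b.2
        show (a * b : G) * w * (a * b : G)⁻¹ * w⁻¹ = ((a : G) * w * (a : G)⁻¹ * w⁻¹) * ((b : G) * w * (b : G)⁻¹ * w⁻¹)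
        rw [show ((a : G) * b) * w * ((a : G) * b)⁻¹ = (a : G) * ((b : G) * w * (b : G)⁻¹) * (a : G)⁻¹ by group, e,
          show (a : G) * (w * z) * (a : G)⁻¹ = ((a : G) * w * (a : G)⁻¹) * ((a : G) * z * (a : G)⁻¹) by group,
          mem_center_iff.mp hz a, mul_inv_cancel_right]
        group) }
  have h1 : S (⟨g, hg⟩ * ⟨h, hh⟩ * ⟨g, hg⟩⁻¹ * ⟨h, hh⟩⁻¹) = 1 := by
    rw [map_mul, map_mul, map_mul, map_inv, map_inv]
    apply Subtype.ext
    have hc : Commute (S ⟨g, hg⟩ : G) (S ⟨h, hh⟩ : G) :=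
      (mem_center_iff.mp (S ⟨g, hg⟩).2 _).symm
    push_cast
    rw [hc.eq]; group
  have h2 : (g * h * g⁻¹ * h⁻¹) * w * (g * h * g⁻¹ * h⁻¹)⁻¹ * w⁻¹ = 1 := congrArg Subtype.val h1
  rw [mul_inv_eq_one, mul_inv_eq_iff_eq_mul] at h2
  exact mem_cent.mpr h2

theorem CentralMod.pow_mem_C (hw : CentralMod P p w) {g : G} (hg : g ∈ P) : g ^ p ∈ C w := by
  set z := g * w * g⁻¹ * w⁻¹ with hz
  have hzc : z ∈ center G := hw.comm g hg
  have e : g * w * g⁻¹ = z * w := by rw [hz, inv_mul_cancel_right]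
  have hzp : z ^ p = 1 := by
    have h1 : g * w ^ p * g⁻¹ = z ^ p * w ^ p := by
      rw [← conj_pow, e, (show Commute z w from (mem_center_iff.mp hzc w).symm).mul_pow]
    rw [mem_center_iff.mp hw.pow g, mul_inv_cancel_right] at h1
    exact mul_eq_right.mp h1.symm
  have key : ∀ i : ℕ, g ^ i * w * (g ^ i)⁻¹ = z ^ i * w := by
    intro i
    induction i with
    | zero => simp
    | succ i ih =>
      rw [pow_succ' g i, mul_inv_rev, show g * g ^ i * w * ((g ^ i)⁻¹ * g⁻¹) = g * (g ^ i * w * (g ^ i)⁻¹) * g⁻¹ by group,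
        ih, ← mul_assoc g, mem_center_iff.mp (pow_mem hzc i) g, mul_assoc (z ^ i), mul_assoc (z ^ i), e,
        ← mul_assoc, ← pow_succ]
  have h1 := key p
  rw [hzp, one_mul, mul_inv_eq_iff_eq_mul] at h1
  exact mem_cent.mpr h1

/-- A Sylow subgroup meets a subgroup it normalises in a Sylow subgroup of it. -/
theorem fac_inf_of_normalizes [Fact p.Prime] (P : Sylow p G) {H : Subgroup G}
    (hn : (P : Subgroup G) ≤ normalizer (H : Set G)) : fac p ((P : Subgroup G) ⊓ H) = fac p H := by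
  refine le_antisymm (fac_mono inf_le_right) ?_
  obtain ⟨S⟩ : Nonempty (Sylow p H) := inferInstance
  set S' := (S : Subgroup H).map H.subtype with hS'
  have hS'H : S' ≤ H := map_subtype_le _
  have hS'N : S' ≤ normalizer (H : Set G) := hS'H.trans le_normalizer
  obtain ⟨R, hR⟩ := (show IsPGroup p (S'.subgroupOf (normalizer (H : Set G))) from
    (S.2.map H.subtype).comap_subtype).exists_le_sylow
  obtain ⟨c, hc⟩ := MulAction.exists_smul_eq (normalizer (H : Set G)) R (P.subtype hn)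
  have hmem : S'.map (MulAut.conj (c : G)).toMonoidHom ≤ (P : Subgroup G) ⊓ H := by
    rintro _ ⟨s, hs, rfl⟩
    refine ⟨?_, (mem_normalizer_iff.mp c.2 s).mp (hS'H hs)⟩
    have h1 : (⟨s, hS'N hs⟩ : normalizer (H : Set G)) ∈ (R : Subgroup _) := hR hs
    have h2 : c * ⟨s, hS'N hs⟩ * c⁻¹ ∈ ((c • R : Sylow p _) : Subgroup (normalizer (H : Set G))) := by
      rw [Sylow.coe_subgroup_smul]
      exact smul_mem_pointwise_smul _ (MulAut.conj c) _ h1
    rw [hc] at h2
    exact h2
  have h3 := fac_mono (p := p) hmem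
  rw [fac, fac, card_map_of_injective (MulAut.conj (c : G)).injective, hS', card_subtype, S.card_eq_multiplicity,
    (Fact.out (p := p.Prime)).factorization_pow, Finsupp.single_eq_same] at h3
  exact h3

/-- The `r`-elements of a subgroup in which they commute pairwise. -/
def pelSub (r : ℕ) (H : Subgroup G) (hc : ∀ a ∈ H, ∀ b ∈ H, PEl r a → PEl r b → Commute a b) : Subgroup G where
  carrier := {v | v ∈ H ∧ PEl r v}
  one_mem' := ⟨one_mem _, PEl.one r⟩
  mul_mem' := fun {a b} ha hb => ⟨mul_mem ha.1 hb.1, ha.2.mul (hc a ha.1 b hb.1 ha.2 hb.2) hb.2⟩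
  inv_mem' := fun {a} ha => ⟨inv_mem ha.1, ha.2.inv⟩

/-- A prime of `m` divides it exactly once, given a fixed point free action. -/
theorem Sizes.fac_eq_one (h : Sizes G m n) (hp : p.Prime) (hd : p ∣ m) [Fact p.Prime] (P : Sylow p G) {w : G}
    (hw : CentralMod (P : Subgroup G) p w) {r : ℕ} (hr : r.Prime) (hne : r ≠ p)
    (hcomm : ∀ a ∈ C w, ∀ b ∈ C w, PEl r a → PEl r b → Commute a b)
    (hcent : ∀ k ∈ C w, PEl r k → C w ≤ C k)
    (hfix : ∀ g ∈ (P : Subgroup G), ∀ k ∈ C w, PEl r k → k ∉ center G → Commute g k →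
      ∀ k' ∈ C w, PEl r k' → Commute g k')
    (hex : ∃ k ∈ C w, PEl r k ∧ k ∉ center G) : m.factorization p = 1 := by
  set K := pelSub r (C w) hcomm with hK
  set P0 := (P : Subgroup G) ⊓ centralizer (K : Set G) with hP0
  have hin : ∀ g ∈ (P : Subgroup G), g ∈ C w → g ∈ P0 := fun g hg hgw =>
    ⟨hg, mem_centralizer_iff.mpr fun k hk => (mem_cent.mp (hcent k hk.1 hk.2 hgw)).symm⟩
  have hle : P0.relIndex (P : Subgroup G) ≤ p := by
    refine relIndex_le_of_fpf hp (K := K) ?_ (fun a ha b hb => hcomm a ha.1 b hb.1 ha.2 hb.2) ?_ ?_ ?_ ?_ ?_ ?_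
    · exact fun g hg k hk => ⟨hw.C_conj_mem hg hk.1, hk.2.conj g⟩
    · exact fun g hg k hk => (mem_centralizer_iff.mp hg.2 k hk).symm
    · exact fun g hg h' hh' => hin _ (mul_mem (mul_mem (mul_mem hg hh') (inv_mem hg)) (inv_mem hh'))
        (hw.comm_mem_C hg hh')
    · exact fun g hg => hin _ (pow_mem hg p) (hw.pow_mem_C hg)
    · intro g hg hg0 k hk hgk
      by_contra hkz
      exact hg0 ⟨hg, mem_centralizer_iff.mpr fun k' hk' => (hfix g hg k hk.1 hk.2 hkz hgk k' hk'.1 hk'.2).symm⟩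
    · exact fun k hk hkp => hk.2.mem_center_of_pow hr hp hne hkp
    · obtain ⟨k, hk, hkr, hkz⟩ := hex
      exact ⟨k, ⟨hk, hkr⟩, hkz⟩
  obtain ⟨k, hk, hkr, hkz⟩ := hex
  have hP0k : P0 ≤ C k := fun g hg => mem_cent.mpr (mem_centralizer_iff.mp hg.2 k ⟨hk, hkr⟩).symm
  have h1 := fac_mono (p := p) hP0k
  have h2 := h.fac_m hp hd hkz
  have h3 := h.fac_pos hp hd
  obtain ⟨j, hj⟩ := IsPGroup.iff_card.mp (P.2.to_le (inf_le_left : P0 ≤ (P : Subgroup G)))
  have h4 : Nat.card P0 * P0.relIndex (P : Subgroup G) = Nat.card (P : Subgroup G) := by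
    rw [← relIndex_bot_left P0, ← relIndex_bot_left (P : Subgroup G)]
    exact relIndex_mul_relIndex _ _ _ bot_le inf_le_left
  rw [hj, P.card_eq_multiplicity] at h4
  have h5 : fac p P0 = j := fac_eq_of_card hp hj
  have h6 : p ^ (Nat.card G).factorization p ≤ p ^ (j + 1) := by
    rw [← h4, pow_succ]; exact Nat.mul_le_mul_left _ hle
  have h7 := (Nat.pow_le_pow_iff_right hp.one_lt).mp h6
  omega

/-- Counting fixed points modulo a central subgroup. -/
theorem index_modEq_one [Fact p.Prime] {V F : Subgroup G} {g : G} (hg : PEl p g) (hFV : F ≤ V)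
    (hVc : ∀ a ∈ V, ∀ b ∈ V, Commute a b) (hV : ∀ v ∈ V, g * v * g⁻¹ ∈ V) (hF : ∀ v ∈ F, g * v * g⁻¹ ∈ F)
    (hfix : ∀ v ∈ V, g * v * g⁻¹ * v⁻¹ ∈ F → v ∈ F) : F.relIndex V ≡ 1 [MOD p] := by
  classical
  have hfin : IsOfFinOrder g := isOfFinOrder_of_finite g
  have hpow : ∀ {H : Subgroup G}, (∀ v ∈ H, g * v * g⁻¹ ∈ H) → ∀ x ∈ zpowers g, ∀ v ∈ H, x * v * x⁻¹ ∈ H := by
    intro H hH x hx
    obtain ⟨i, rfl⟩ := mem_powers_iff_mem_zpowers.mpr hx
    show ∀ v ∈ H, g ^ i * v * (g ^ i)⁻¹ ∈ H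
    clear hx
    induction i with
    | zero => simp
    | succ i ih =>
      intro v hv
      rw [pow_succ, mul_inv_rev, show g ^ i * g * v * (g⁻¹ * (g ^ i)⁻¹) = g ^ i * (g * v * g⁻¹) * (g ^ i)⁻¹ by group]
      exact ih _ (hH v hv)
  letI : MulAction (zpowers g) (V ⧸ F.subgroupOf V) :=
    { smul := fun x => Quotient.map' (fun v : V => (⟨(x : G) * v * (x : G)⁻¹, hpow hV x x.2 v v.2⟩ : V))
        (fun a b hab => by
          rw [QuotientGroup.leftRel_apply] at hab ⊢
          have hm : ((a : G))⁻¹ * b ∈ F := hab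
          show ((x : G) * a * (x : G)⁻¹)⁻¹ * ((x : G) * b * (x : G)⁻¹) ∈ F
          rw [show ((x : G) * a * (x : G)⁻¹)⁻¹ * ((x : G) * b * (x : G)⁻¹) = (x : G) * ((a : G)⁻¹ * b) * (x : G)⁻¹ by group]
          exact hpow hF x x.2 _ hm)
      one_smul := fun q => by
        induction q using Quotient.inductionOn'
        rename_i v
        show Quotient.mk'' _ = Quotient.mk'' v
        congr 1
        exact Subtype.ext (by simp)
      mul_smul := fun x y q => by
        induction q using Quotient.inductionOn'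
        rename_i v
        show Quotient.mk'' _ = Quotient.mk'' _
        congr 1
        exact Subtype.ext (by push_cast; group) }
  have h1 := (hg.isPGroup).card_modEq_card_fixedPoints (V ⧸ F.subgroupOf V)
  have h2 : MulAction.fixedPoints (zpowers g) (V ⧸ F.subgroupOf V) = {((1 : V) : V ⧸ F.subgroupOf V)} := by
    ext q
    rw [Set.mem_singleton_iff]
    induction q using Quotient.inductionOn'
    rename_i v
    constructor
    · intro hq
      have h := hq ⟨g, mem_zpowers g⟩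
      have h' : ((⟨g * v * g⁻¹, hV v v.2⟩ : V) : V ⧸ F.subgroupOf V) = (v : V ⧸ F.subgroupOf V) := h
      rw [QuotientGroup.eq, mem_subgroupOf] at h'
      have hvF : (v : G) ∈ F := hfix v v.2 (by
        have e := inv_mem h'
        simp only [coe_mul, coe_inv, mul_inv_rev, inv_inv] at e
        rw [← (hVc _ (inv_mem v.2) _ (hV v v.2)).eq]
        exact e)
      refine QuotientGroup.eq.mpr ?_
      rw [mul_one, inv_mem_iff]
      exact hvF
    · intro hv x
      rw [hv]
      show Quotient.mk'' _ = Quotient.mk'' (1 : V)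
      congr 1
      exact Subtype.ext (by simp)
  rw [h2, Set.ncard_singleton _ |>.symm.trans (Nat.card_coe_set_eq _).symm |>.symm] at h1
  exact h1

end Cfsg.Agent.GroupStructure3.ThreeSizes
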