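import Mathlib
import Cfsg.Agent.GroupStructure3.ThreeSizes.Action

/-!
Some `π(m)`-element has class size `m`.
-/

set_option autoImplicit false
set_option linter.style.haveILetI false
set_option linter.deprecated false
set_option linter.unusedSectionVars false

namespace Cfsg.Agent.GroupStructure3.ThreeSizes

open Subgroup ClassGraph
open scoped commutatorElement Pointwise IsMulCommutative

variable {G : Type*} [Group G] [Finite G] {m n p : ℕ}

theorem exists_mul_of_relIndex_eq {A N : Subgroup G} (h : A.relIndex N = A.index) (g : G) :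
    ∃ u ∈ N, ∃ v ∈ A, g = u * v := by
  classical
  have hst : MulAction.stabilizer N ((1 : G) : G ⧸ A) = A.subgroupOf N := by
    ext b
    rw [MulAction.mem_stabilizer_iff, Subgroup.mem_subgroupOf]
    show (((b : G) * 1 : G) : G ⧸ A) = _ ↔ _
    rw [QuotientGroup.eq, mul_one, mul_one, inv_mem_iff]
  have horb : (MulAction.orbit N ((1 : G) : G ⧸ A)) = Set.univ := by
    refine Set.eq_of_subset_of_ncard_le (Set.subset_univ _) ?_
    rw [Set.ncard_univ, ← MulAction.index_stabilizer, hst]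
    exact le_of_eq h.symm
  obtain ⟨⟨u, hu⟩, hb⟩ := horb.ge (Set.mem_univ ((g : G) : G ⧸ A))
  refine ⟨u, hu, u⁻¹ * g, ?_, by group⟩
  have e : ((u * 1 : G) : G ⧸ A) = (g : G ⧸ A) := hb
  rw [QuotientGroup.eq, mul_one] at e
  exact e

theorem eq_of_fac_le [hp : Fact p.Prime] {S T : Subgroup G} (hT : IsPGroup p T) (hle : S ≤ T)
    (h : fac p T ≤ fac p S) : S = T := by
  refine Subgroup.eq_of_le_of_card_ge hle ?_
  obtain ⟨i, hi⟩ := IsPGroup.iff_card.mp hT
  obtain ⟨j, hj⟩ := IsPGroup.iff_card.mp (hT.to_le hle)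
  rw [fac_eq_of_card hp.out hi, fac_eq_of_card hp.out hj] at h
  rw [hi, hj]
  exact Nat.pow_le_pow_right hp.out.pos h

theorem le_normalizer_of_card_eq [hp : Fact p.Prime] {P S : Subgroup G} (hP : IsPGroup p P) (hle : S ≤ P)
    (hc : fac p P = fac p S + 1) : P ≤ normalizer (S : Set G) := by
  obtain ⟨i, hi⟩ := IsPGroup.iff_card.mp hP
  obtain ⟨j, hj⟩ := IsPGroup.iff_card.mp (hP.to_le hle)
  rw [fac_eq_of_card hp.out hi, fac_eq_of_card hp.out hj] at hc
  haveI : (S.subgroupOf P).Normal := by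
    refine normal_of_index_eq_minFac_card ?_
    have h1 := (S.subgroupOf P).card_mul_index
    rw [Nat.card_congr (subgroupOfEquivOfLe hle).toEquiv, hj, hi, hc, pow_succ] at h1
    rw [Nat.eq_of_mul_eq_mul_left (pow_pos hp.out.pos j) h1, hi, hc, pow_succ']
    rw [← pow_succ', hp.out.pow_minFac (Nat.succ_ne_zero j)]
  exact (normal_subgroupOf_iff_le_normalizer hle).mp inferInstance

theorem relIndex_ne_zero' (K H : Subgroup G) : K.relIndex H ≠ 0 := Subgroup.index_ne_zero_of_finite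

theorem fac_add_relIndex (q : ℕ) {K H : Subgroup G} (hle : K ≤ H) :
    fac q H = fac q K + (K.relIndex H).factorization q := by
  have h2 : Nat.card K * K.relIndex H = Nat.card H := by
    rw [← relIndex_bot_left K, ← relIndex_bot_left H]; exact relIndex_mul_relIndex _ _ _ bot_le hle
  rw [fac, fac, ← h2, Nat.factorization_mul Nat.card_pos.ne' (relIndex_ne_zero' K H), Finsupp.coe_add, Pi.add_apply]

theorem pel_mem_normal [hp : Fact p.Prime] {K H : Subgroup G} [K.Normal] (hKH : K ≤ H)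
    (hfac : fac p H ≤ fac p K) {e : G} (he : PEl p e) (heH : e ∈ H) : e ∈ K := by
  obtain ⟨k, hk⟩ := he
  have h1 := (⟨e, heH⟩ : H) |> fun x => Subgroup.pow_index_mem (K.subgroupOf H) x
  rw [mem_subgroupOf] at h1
  refine ClassGraph.mem_of_pow_mem (a := p ^ k) (b := K.relIndex H) ?_ (hk ▸ one_mem _)
    (by simpa [relIndex] using h1)
  refine Nat.Coprime.pow_left k (hp.out.coprime_iff_not_dvd.mpr fun hd => ?_)
  have h3 := fac_add_relIndex p hKH
  have := hp.out.factorization_pos_of_dvd (relIndex_ne_zero' K H) hd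
  omega

variable (h : Sizes G m n)
  (hII : ∀ p, Nat.Prime p → p ∣ m → ∀ u : G, PEl p u → u ∉ center G → cs u = m * n)
include h hII

theorem exists_pi_base : ∃ r : ℕ, r.Prime ∧ r ∣ n ∧ ∃ y : G, PEl r y ∧ cs y = m := by
  obtain ⟨g, hg⟩ := h.ex_m
  obtain ⟨t, ht, v, hv, hvt, hvz⟩ := exists_component (h.not_center_of_m hg)
  have hvm : cs v = m := h.eq_m_of_dvd hvz (index_dvd_of_le (C_le_of_mem_zpowers hv)) hg
  rcases h.prime_cases ht hvt hvz with hd | hd
  · exact absurd (hvm.symm.trans (hII t ht hd v hvt hvz)) h.m_ne_mn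
  · exact ⟨t, ht, hd, v, hvt, hvm⟩

variable {r : ℕ} (hr : r.Prime) (hrn : r ∣ n) {y₀ : G} (hy₀r : PEl r y₀) (hy₀ : cs y₀ = m)
include hr hrn hy₀r hy₀

theorem exists_m_in_cent (hp : p.Prime) (hd : p ∣ m) {u : G} (hu : PEl p u) (huz : u ∉ center G) :
    ∃ y ∈ C u, PEl r y ∧ cs y = m := by
  haveI := Fact.mk hr
  have humn := hII p hp hd u hu huz
  have hpr : p ≠ r := fun e => h.not_dvd_n hp hd (e ▸ hrn)
  obtain ⟨u₁, hu₁, hu₁p, hu₁z⟩ := h.exists_pel_cent hp hd (h.not_center_of_m hy₀)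
  have h1 := fac_lt_of_pel (center_le_C u₁) (mem_C_comm.mp hu₁) hy₀r (h.not_center_of_m hy₀)
  have h2 := h.fac_n hr hrn (hII p hp hd u₁ hu₁p hu₁z)
  have h3 := h.fac_n hr hrn humn
  obtain ⟨v, hv, hvr, hvz⟩ := exists_pel_not_mem (p := r) (H := C u) (K := center G) (by omega)
  rcases h.cases hvz with e | e
  · exact ⟨v, hv, hvr, e⟩
  obtain ⟨R, hR⟩ := hvr.isPGroup.exists_le_sylow
  obtain ⟨R₀, hyR₀, hR₀⟩ := exists_sylow_le (h.not_dvd_cs_m hr hrn hy₀) (self_mem_C y₀) hy₀r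
  obtain ⟨c, hc⟩ := MulAction.exists_smul_eq G R₀ R
  have hRz : (R : Subgroup G) ≤ C (c * y₀ * c⁻¹) := by
    intro w hw
    rw [← hc, Sylow.coe_subgroup_smul] at hw
    exact (ThreeSizes.C_conj c y₀).mpr (hR₀ (GStructB.PElements.mem_conj_smul.mp hw))
  refine ⟨c * y₀ * c⁻¹, ?_, hy₀r.conj c, by rw [cs_conj, hy₀]⟩
  exact h.C_le e (mem_C_comm.mp hv) (hvr.coprime hr hp hpr.symm hu) (mem_C_comm.mp (hRz (hR (mem_zpowers v))))

theorem r_comm (hp : p.Prime) (hd : p ∣ m) {u : G} (hu : PEl p u) (huz : u ∉ center G) :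
    ∀ a ∈ C u, PEl r a → C u ≤ C a := fun a ha har =>
  h.C_le (hII p hp hd u hu huz) ha (hu.coprime hp hr (fun e => h.not_dvd_n hp hd (e ▸ hrn)) har)

theorem r_comm' (hp : p.Prime) (hd : p ∣ m) {u : G} (hu : PEl p u) (huz : u ∉ center G) :
    ∀ a ∈ C u, ∀ b ∈ C u, PEl r a → PEl r b → Commute a b := fun a ha b hb har _ =>
  (show Commute b a from mem_cent.mp (r_comm h hII hr hrn hy₀r hy₀ hp hd hu huz a ha har hb)).symm

theorem fac_one (hp : p.Prime) (hd : p ∣ m) : m.factorization p = 1 := by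
  haveI := Fact.mk hp
  obtain ⟨P⟩ : Nonempty (Sylow p G) := inferInstance
  obtain ⟨v, hv, hvz⟩ := h.exists_pel hp hd
  obtain ⟨c, hcv⟩ := exists_conj_mem P hv
  have hne : ∃ t ∈ (P : Subgroup G), t ∉ center G := ⟨_, hcv, fun hz => hvz (by
    have hz' : c * (c⁻¹ * v * c) * c⁻¹ ∈ center G := by
      rw [mem_center_iff.mp hz c, mul_inv_cancel_right]; exact hz
    rwa [show c * (c⁻¹ * v * c) * c⁻¹ = v by group] at hz')⟩
  obtain ⟨w, hwP, hwz, hwp, hwc⟩ := exists_central_mod hp P.2 (T := (P : Subgroup G)) le_rfl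
    (fun g hg t ht => mul_mem (mul_mem hg ht) (inv_mem hg)) hne
  have hwpel : PEl p w := PEl.of_isPGroup P.2 hwP
  have hw : CentralMod (P : Subgroup G) p w := ⟨hwP, hwz, hwp, hwc⟩
  obtain ⟨y, hy, hyr, hym⟩ := exists_m_in_cent h hII hr hrn hy₀r hy₀ hp hd hwpel hwz
  refine h.fac_eq_one hp hd P hw hr (fun e => h.not_dvd_n hp hd (e ▸ hrn))
    (r_comm' h hII hr hrn hy₀r hy₀ hp hd hwpel hwz) (r_comm h hII hr hrn hy₀r hy₀ hp hd hwpel hwz) ?_
    ⟨y, hy, hyr, h.not_center_of_m hym⟩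
  intro g hg k hk hkr hkz hgk k' hk' hk'r
  have hle := r_comm h hII hr hrn hy₀r hy₀ hp hd hwpel hwz k hk hkr
  have hn : (P : Subgroup G) ≤ normalizer (C w : Set G) :=
    mem_normalizer_of_conj fun g hg v hv => hw.C_conj_mem hg hv
  have h1 := fac_inf_of_normalizes P hn
  have h2 := fac_mono (p := p) (inf_le_right : (P : Subgroup G) ⊓ C k ≤ C k)
  have h3 := h.fac_m hp hd hwz
  have h4 := h.fac_m hp hd hkz
  have he : (P : Subgroup G) ⊓ C w = (P : Subgroup G) ⊓ C k :=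
    eq_of_fac_le (P.2.to_le inf_le_left) (inf_le_inf_left _ hle) (by omega)
  have hgw : g ∈ (P : Subgroup G) ⊓ C w := he.ge ⟨hg, mem_cent.mpr hgk.eq⟩
  exact mem_cent.mp (r_comm h hII hr hrn hy₀r hy₀ hp hd hwpel hwz k' hk' hk'r hgw.2)

/-- The `r`-elements of the centraliser of a `π(m)`-element. -/
theorem normalizes (hp : p.Prime) (hd : p ∣ m) [Fact p.Prime] {u : G} (hu : PEl p u) (huz : u ∉ center G) :
    ∃ (S : Subgroup G) (P : Sylow p G), u ∈ S ∧ S ≤ C u ∧ S ≤ (P : Subgroup G) ∧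
      fac p S + 1 = (Nat.card G).factorization p ∧
      (∀ s ∈ S, ∀ v ∈ C u, PEl r v → Commute s v) ∧
      ∀ g ∈ (P : Subgroup G), ∀ v ∈ C u, PEl r v → g * v * g⁻¹ ∈ C u := by
  obtain ⟨S₀, hS₀⟩ := (PEl.sub (g := (⟨u, self_mem_C u⟩ : C u)) hu).isPGroup.exists_le_sylow
  set S := (S₀ : Subgroup (C u)).map (C u).subtype with hS
  have hSp : IsPGroup p S := S₀.2.map _
  obtain ⟨P, hP⟩ := hSp.exists_le_sylow
  have huS : u ∈ S := ⟨_, hS₀ (mem_zpowers _), rfl⟩
  have hfS : fac p S = fac p (C u) := fac_eq_of_card hp (by rw [hS, card_subtype]; exact S₀.card_eq_multiplicity)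
  have h1 := h.fac_m hp hd huz
  rw [fac_one h hII hr hrn hy₀r hy₀ hp hd] at h1
  have hfP : fac p (P : Subgroup G) = (Nat.card G).factorization p := fac_eq_of_card hp P.card_eq_multiplicity
  have hN := le_normalizer_of_card_eq P.2 hP (by omega)
  have hcomm : ∀ s ∈ S, ∀ v ∈ C u, PEl r v → Commute s v := fun s hs v hv hvr =>
    mem_cent.mp (r_comm h hII hr hrn hy₀r hy₀ hp hd hu huz v hv hvr (map_subtype_le _ hs))
  refine ⟨S, P, huS, map_subtype_le _, hP, by omega, hcomm, fun g hg v hv hvr => mem_cent.mpr ?_⟩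
  have hs : g⁻¹ * u * g ∈ S := by
    simpa using (mem_normalizer_iff.mp (inv_mem (hN hg)) u).mp huS
  calc g * v * g⁻¹ * u = g * (v * (g⁻¹ * u * g)) * g⁻¹ := by group
    _ = g * ((g⁻¹ * u * g) * v) * g⁻¹ := by rw [(hcomm _ hs v hv hvr).eq]
    _ = u * (g * v * g⁻¹) := by group

omit hy₀r hy₀ in
/-- Witness data attached to a `π(m)`-element. -/
def Wit (G : Type*) [Group G] (m p r : ℕ) (y : G) : Prop :=
  cs y = m ∧ PEl r y ∧ (∀ a ∈ normalClosure {y}, ∀ b ∈ normalClosure {y}, Commute a b) ∧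
    (∀ a ∈ normalClosure {y}, PEl r a) ∧
    fac p (centralizer (normalClosure {y} : Set G)) + 1 = (Nat.card G).factorization p

theorem exists_wit (hp : p.Prime) (hd : p ∣ m) {u : G} (hu : PEl p u) (huz : u ∉ center G) :
    ∃ y : G, Wit G m p r y ∧ u ∈ centralizer (normalClosure {y} : Set G) := by
  haveI := Fact.mk hp
  obtain ⟨y, hy, hyr, hym⟩ := exists_m_in_cent h hII hr hrn hy₀r hy₀ hp hd hu huz
  set B := pelSub r (C u) (r_comm' h hII hr hrn hy₀r hy₀ hp hd hu huz) with hB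
  obtain ⟨S, P, huS, hSu, hSP, hSf, hScomm, hPn⟩ := normalizes h hII hr hrn hy₀r hy₀ hp hd hu huz
  set N := normalizer (B : Set G) with hN
  have hdvd : ∀ q : ℕ, q.Prime → q ∣ m → q ∣ (C y).relIndex N := by
    intro q hq hqd
    haveI := Fact.mk hq
    obtain ⟨Q, hQ⟩ : ∃ Q : Sylow q G, (Q : Subgroup G) ≤ N := by
      rcases eq_or_ne q p with rfl | hne
      · exact ⟨P, mem_normalizer_of_conj fun g hg v hv => ⟨hPn g hg v hv.1 hv.2, hv.2.conj g⟩⟩
      · obtain ⟨v, hv, hvq, hvz⟩ := h.exists_pel_cent hq hqd huz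
        have e := h.C_eq (hII p hp hd u hu huz) (hII q hq hqd v hvq hvz) hv (hu.coprime hp hq hne.symm hvq)
        obtain ⟨-, Q, -, -, -, -, -, hQn⟩ := normalizes h hII hr hrn hy₀r hy₀ hq hqd hvq hvz
        refine ⟨Q, mem_normalizer_of_conj fun g hg a ha => ⟨?_, ha.2.conj g⟩⟩
        rw [e]
        exact hQn g hg a (e.le ha.1) ha.2
    by_contra hnd
    have h1 := fac_mono (p := q) hQ
    rw [fac_eq_of_card hq Q.card_eq_multiplicity] at h1
    have h2 := fac_mono (p := q) (inf_le_left : C y ⊓ N ≤ C y)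
    have h3 := h.fac_m hq hqd (h.not_center_of_m hym)
    rw [fac_one h hII hr hrn hy₀r hy₀ hq hqd] at h3
    have h5 := fac_add_relIndex q (inf_le_right : C y ⊓ N ≤ N)
    rw [inf_relIndex_right] at h5
    rw [Nat.factorization_eq_zero_of_not_dvd hnd, add_zero] at h5
    omega
  have hrel : (C y).relIndex N = (C y).index := by
    refine le_antisymm ?_ ?_
    · have := relIndex_le_of_le_right (H := C y) (le_top : N ≤ ⊤) (by rw [relIndex_top_right]; exact index_ne_zero_of_finite)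
      rwa [relIndex_top_right] at this
    · rw [show (C y).index = m from hym]
      refine Nat.le_of_dvd (Nat.pos_of_ne_zero (Subgroup.index_ne_zero_of_finite (H := (C y).subgroupOf N))) ?_
      rw [← Nat.factorization_le_iff_dvd (by have := h.hm; omega) (show (C y).relIndex N ≠ 0 from Subgroup.index_ne_zero_of_finite)]
      intro q
      by_cases hq : q.Prime ∧ q ∣ m
      · rw [fac_one h hII hr hrn hy₀r hy₀ hq.1 hq.2]
        exact hq.1.factorization_pos_of_dvd (Subgroup.index_ne_zero_of_finite (H := (C y).subgroupOf N)) (hdvd q hq.1 hq.2)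
      · rcases not_and_or.mp hq with hq | hq
        · rw [Nat.factorization_eq_zero_of_not_prime _ hq]; exact Nat.zero_le _
        · rw [Nat.factorization_eq_zero_of_not_dvd hq]; exact Nat.zero_le _
  have hclB : normalClosure {y} ≤ B := by
    refine (Subgroup.closure_le _).mpr fun a ha => ?_
    obtain ⟨y', hy', hc⟩ := Group.mem_conjugatesOfSet_iff.mp ha
    rw [Set.mem_singleton_iff] at hy'
    subst hy'
    obtain ⟨c, rfl⟩ := isConj_iff.mp hc
    obtain ⟨a, haN, b, hb, rfl⟩ := exists_mul_of_relIndex_eq hrel c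
    have hby : b * y' * b⁻¹ = y' := mul_inv_eq_iff_eq_mul.mpr (mem_cent.mp hb)
    rw [show a * b * y' * (a * b)⁻¹ = a * (b * y' * b⁻¹) * a⁻¹ by group, hby]
    exact (mem_normalizer_iff.mp haN y').mp ⟨hy, hyr⟩
  have hcK : ∀ x, (∀ v ∈ C u, PEl r v → Commute x v) → x ∈ centralizer (normalClosure {y} : Set G) :=
    fun x hx => mem_centralizer_iff.mpr fun a ha => (hx a (hclB ha).1 (hclB ha).2).symm
  have hle : centralizer (normalClosure {y} : Set G) ≤ C y := fun x hx =>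
    mem_cent.mpr (mem_centralizer_iff.mp hx y (subset_normalClosure (Set.mem_singleton y))).symm
  refine ⟨y, ⟨hym, hyr, fun a ha b hb => r_comm' h hII hr hrn hy₀r hy₀ hp hd hu huz a (hclB ha).1 b (hclB hb).1
    (hclB ha).2 (hclB hb).2, fun a ha => (hclB ha).2, ?_⟩, hcK u fun v hv _ => (mem_cent.mp hv).symm⟩
  have h6 := fac_mono (p := p) hle
  have h7 := h.fac_m hp hd (h.not_center_of_m hym)
  rw [fac_one h hII hr hrn hy₀r hy₀ hp hd] at h7
  have h8 := fac_mono (p := p) (fun s hs => hcK s fun v hv hvr => hScomm s hs v hv hvr :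
    S ≤ centralizer (normalClosure {y} : Set G))
  omega

theorem caseTwo_false (hp : p.Prime) (hd : p ∣ m) : False := by
  haveI := Fact.mk hp
  haveI := Fact.mk hr
  have hpr : p ≠ r := fun e => h.not_dvd_n hp hd (e ▸ hrn)
  obtain ⟨v, hv, hvz⟩ := h.exists_pel hp hd
  obtain ⟨y₁, ⟨hy₁, hy₁r, hV₁c, hV₁r, hK₁⟩, -⟩ := exists_wit h hII hr hrn hy₀r hy₀ hp hd hv hvz
  set V₁ := normalClosure {y₁} with hV₁
  set K₁ := centralizer (V₁ : Set G) with hK₁def
  haveI : K₁.Normal := inferInstance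
  obtain ⟨P⟩ : Nonempty (Sylow p G) := inferInstance
  have hfP : fac p (P : Subgroup G) = (Nat.card G).factorization p := fac_eq_of_card hp P.card_eq_multiplicity
  have hPK : fac p ((P : Subgroup G) ⊓ K₁) = fac p K₁ :=
    fac_inf_of_normalizes P (by rw [normalizer_eq_top]; exact le_top)
  obtain ⟨u, huP, huK⟩ : ∃ u ∈ (P : Subgroup G), u ∉ K₁ := by
    by_contra hcon
    push Not at hcon
    have := fac_mono (p := p) (hcon : (P : Subgroup G) ≤ K₁)
    omega
  have hZK : center G ≤ K₁ := center_le_centralizer _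
  have huz : u ∉ center G := fun hz => huK (hZK hz)
  have hup : PEl p u := PEl.of_isPGroup P.2 huP
  obtain ⟨y₂, ⟨hy₂, hy₂r, hV₂c, hV₂r, hK₂⟩, huK₂⟩ := exists_wit h hII hr hrn hy₀r hy₀ hp hd hup huz
  set V₂ := normalClosure {y₂} with hV₂
  set K₂ := centralizer (V₂ : Set G) with hK₂def
  haveI : K₂.Normal := inferInstance
  -- an element centralised by `P ⊓ K₁` and by `u` is central
  have key : ∀ a : G, K₁ ≤ C a → Commute u a → a ∈ center G := by
    intro a hK hua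
    by_contra haz
    have h1 := h.fac_m hp hd haz
    rw [fac_one h hII hr hrn hy₀r hy₀ hp hd] at h1
    have h2 := fac_mono (p := p) (inf_le_right : (P : Subgroup G) ⊓ C a ≤ C a)
    have he : (P : Subgroup G) ⊓ K₁ = (P : Subgroup G) ⊓ C a :=
      eq_of_fac_le (P.2.to_le inf_le_left) (inf_le_inf_left _ hK) (by omega)
    exact huK (he.ge ⟨huP, mem_cent.mpr hua.eq⟩).2
  have hK₁a : ∀ a ∈ V₁, K₁ ≤ C a := fun a ha x hx => mem_cent.mpr (mem_centralizer_iff.mp hx a ha).symm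
  have hu₂ : ∀ b ∈ V₂, Commute u b := fun b hb => (mem_centralizer_iff.mp huK₂ b hb).symm
  have hinter : ∀ a ∈ V₁, a ∈ V₂ → a ∈ center G := fun a h1 h2 => key a (hK₁a a h1) (hu₂ a h2)
  have hu₁ : ∀ a ∈ V₁, Commute u a → a ∈ center G := fun a h1 h2 => key a (hK₁a a h1) h2
  have hconj₁ : ∀ g, ∀ a ∈ V₁, g * a * g⁻¹ ∈ V₁ := fun g a ha => normalClosure_normal.conj_mem a ha g
  have hconj₂ : ∀ g, ∀ a ∈ V₂, g * a * g⁻¹ ∈ V₂ := fun g a ha => normalClosure_normal.conj_mem a ha g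
  -- the two normal subgroups centralise each other
  have hVV : ∀ a ∈ V₁, ∀ b ∈ V₂, Commute a b := by
    haveI : IsMulCommutative V₁ := ⟨⟨fun a b => Subtype.ext (hV₁c a a.2 b b.2)⟩⟩
    let F : Subgroup V₁ := (center G).subgroupOf V₁
    let χ : V₁ →* V₁ ⧸ F := (QuotientGroup.mk' F).comp
      { toFun := fun a => ⟨u * a * u⁻¹ * (a : G)⁻¹, mul_mem (hconj₁ u a a.2) (inv_mem a.2)⟩
        map_one' := Subtype.ext (by simp)
        map_mul' := fun a b => Subtype.ext (by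
          show u * ((a : G) * b) * u⁻¹ * ((a : G) * b)⁻¹ = (u * a * u⁻¹ * (a : G)⁻¹) * (u * b * u⁻¹ * (b : G)⁻¹)
          have h1 : Commute (a : G)⁻¹ (u * b * u⁻¹ * (b : G)⁻¹) :=
            hV₁c _ (inv_mem a.2) _ (mul_mem (hconj₁ u b b.2) (inv_mem b.2))
          rw [mul_assoc (u * a * u⁻¹) (a : G)⁻¹, h1.eq]
          group) }
    have hF : F ≤ χ.ker := fun a ha => by
      have ha' : (a : G) ∈ center G := ha
      rw [MonoidHom.mem_ker]
      show QuotientGroup.mk' F _ = 1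
      rw [QuotientGroup.mk'_apply, QuotientGroup.eq_one_iff, mem_subgroupOf]
      show u * a * u⁻¹ * (a : G)⁻¹ ∈ center G
      rw [mem_center_iff.mp ha' u, mul_inv_cancel_right, mul_inv_cancel]
      exact one_mem _
    let χ' := QuotientGroup.lift F χ hF
    have hinj : Function.Injective χ' := by
      rw [injective_iff_map_eq_one]
      intro q hq
      obtain ⟨a, rfl⟩ := QuotientGroup.mk_surjective q
      rw [QuotientGroup.eq_one_iff, mem_subgroupOf]
      refine hu₁ a a.2 ?_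
      have hz : u * a * u⁻¹ * (a : G)⁻¹ ∈ center G :=
        (QuotientGroup.eq_one_iff (⟨_, mul_mem (hconj₁ u a a.2) (inv_mem a.2)⟩ : V₁)).mp (show χ a = 1 from hq)
      have hzr : PEl r (u * a * u⁻¹ * (a : G)⁻¹) :=
        hV₁r _ (mul_mem (hconj₁ u a a.2) (inv_mem a.2))
      obtain ⟨k, hk⟩ := hup
      set z := u * a * u⁻¹ * (a : G)⁻¹ with hzdef
      have e : u * a * u⁻¹ = z * a := by rw [hzdef, inv_mul_cancel_right]
      have hi : ∀ i : ℕ, u ^ i * a * (u ^ i)⁻¹ = z ^ i * a := by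
        intro i
        induction i with
        | zero => simp
        | succ i ih =>
          rw [pow_succ' u i, mul_inv_rev, show u * u ^ i * (a : G) * ((u ^ i)⁻¹ * u⁻¹) = u * (u ^ i * a * (u ^ i)⁻¹) * u⁻¹ by group,
            ih, ← mul_assoc u, mem_center_iff.mp (pow_mem hz i) u, mul_assoc (z ^ i), mul_assoc (z ^ i), e,
            ← mul_assoc, ← pow_succ]
      have h1 := hi (p ^ k)
      rw [hk, one_mul, inv_one, mul_one, eq_comm, mul_eq_right] at h1
      have hz1 : z = 1 := PEl.eq_one hp hr hpr ⟨k, h1⟩ hzr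
      rw [hz1, one_mul, mul_inv_eq_iff_eq_mul] at e
      exact e
    intro a ha b hb
    obtain ⟨q, hq⟩ := (Finite.injective_iff_surjective.mp hinj) (QuotientGroup.mk ⟨a, ha⟩)
    obtain ⟨c, rfl⟩ := QuotientGroup.mk_surjective q
    have hq' : ((⟨_, mul_mem (hconj₁ u c c.2) (inv_mem c.2)⟩ : V₁) : V₁ ⧸ F) = QuotientGroup.mk ⟨a, ha⟩ := hq
    have h0 := (QuotientGroup.eq (s := F)).mp hq'
    have h1 : ((u * c * u⁻¹ * (c : G)⁻¹)⁻¹ * a) ∈ center G := h0
    have e : a = (u * c * u⁻¹ * (c : G)⁻¹) * ((u * c * u⁻¹ * (c : G)⁻¹)⁻¹ * a) := by group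
    rw [e]
    refine Commute.mul_left ?_ (mem_center_iff.mp h1 b).symm
    have hz : (c : G) * b * (c : G)⁻¹ * b⁻¹ ∈ center G := by
      refine hinter _ ?_ (mul_mem (hconj₂ c b hb) (inv_mem hb))
      rw [show (c : G) * b * (c : G)⁻¹ * b⁻¹ = c * (b * (c : G)⁻¹ * b⁻¹) by group]
      exact mul_mem c.2 (hconj₁ b _ (inv_mem c.2))
    set z := (c : G) * b * (c : G)⁻¹ * b⁻¹ with hzdef
    have ec : (c : G) * b * (c : G)⁻¹ = z * b := by rw [hzdef, inv_mul_cancel_right]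
    have ec' : (u * c * u⁻¹) * b * (u * c * u⁻¹)⁻¹ = z * b := by
      have hub : u⁻¹ * b * u = b := by rw [mul_assoc, (hu₂ b hb).symm.eq, inv_mul_cancel_left]
      rw [show (u * c * u⁻¹) * b * (u * c * u⁻¹)⁻¹ = u * (c * (u⁻¹ * b * u) * (c : G)⁻¹) * u⁻¹ by group, hub, ec,
        ← mul_assoc, mem_center_iff.mp hz u, mul_assoc z u b, (hu₂ b hb).eq, ← mul_assoc, mul_inv_cancel_right]
    have hswap : u * c * u⁻¹ * (c : G)⁻¹ = (c : G)⁻¹ * (u * c * u⁻¹) :=
      hV₁c _ (hconj₁ u c c.2) _ (inv_mem c.2)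
    rw [hswap]
    show (c : G)⁻¹ * (u * c * u⁻¹) * b = b * ((c : G)⁻¹ * (u * c * u⁻¹))
    calc (c : G)⁻¹ * (u * c * u⁻¹) * b
        = (c : G)⁻¹ * ((u * c * u⁻¹) * b * (u * c * u⁻¹)⁻¹) * (u * c * u⁻¹) := by group
      _ = (c : G)⁻¹ * ((c : G) * b * (c : G)⁻¹) * (u * c * u⁻¹) := by rw [ec', ec]
      _ = b * ((c : G)⁻¹ * (u * c * u⁻¹)) := by group
  have hy₁V : y₁ ∈ V₁ := subset_normalClosure (Set.mem_singleton y₁)
  have hy₂V : y₂ ∈ V₂ := subset_normalClosure (Set.mem_singleton y₂)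
  set z := y₁ * y₂ with hzdef
  -- the centraliser of `y₁ * y₂`
  let L := (C (QuotientGroup.mk' (center G) y₁)).comap (QuotientGroup.mk' (center G))
  have hLle : C y₁ ≤ L := fun x hx => mem_cent.mpr (by rw [← map_mul, mem_cent.mp hx, map_mul])
  have hLz : ∀ l ∈ L, l * y₁ * l⁻¹ * y₁⁻¹ ∈ center G := fun l hl => by
    rw [← QuotientGroup.eq_one_iff (N := center G)]
    have h1 : QuotientGroup.mk' (center G) l * QuotientGroup.mk' (center G) y₁ =
      QuotientGroup.mk' (center G) y₁ * QuotientGroup.mk' (center G) l := mem_cent.mp hl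
    show QuotientGroup.mk' (center G) (l * y₁ * l⁻¹ * y₁⁻¹) = 1
    rw [map_mul, map_mul, map_mul, map_inv, map_inv, h1, mul_inv_cancel_right, mul_inv_cancel]
  have hCz : C z ≤ C y₁ := by
    intro g hg
    set c := g * y₁ * g⁻¹ * y₁⁻¹ with hcdef
    have hcV₁ : c ∈ V₁ := mul_mem (hconj₁ g _ hy₁V) (inv_mem hy₁V)
    have hcV₂ : c ∈ V₂ := by
      have e1 : g * y₁ * g⁻¹ = y₁ * (y₂ * (g * y₂ * g⁻¹)⁻¹) := by
        have e2 : g * (y₁ * y₂) * g⁻¹ = y₁ * y₂ := mul_inv_eq_iff_eq_mul.mpr (mem_cent.mp hg)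
        calc g * y₁ * g⁻¹ = g * (y₁ * y₂) * g⁻¹ * (g * y₂ * g⁻¹)⁻¹ := by group
          _ = y₁ * (y₂ * (g * y₂ * g⁻¹)⁻¹) := by rw [e2, mul_assoc]
      have hmem : y₂ * (g * y₂ * g⁻¹)⁻¹ ∈ V₂ := mul_mem hy₂V (inv_mem (hconj₂ g _ hy₂V))
      rw [hcdef, e1, (hVV y₁ hy₁V _ hmem).eq, mul_inv_cancel_right]
      exact hmem
    have hcz : c ∈ center G := hinter c hcV₁ hcV₂
    have hgL : g ∈ L := mem_cent.mpr (by
      have e2 : g * y₁ = c * (y₁ * g) := by rw [hcdef]; group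
      rw [← map_mul, ← map_mul, e2, map_mul, (QuotientGroup.eq_one_iff c).mpr hcz |> fun e => show QuotientGroup.mk' (center G) c = 1 from e, one_mul])
    haveI : ((C y₁).subgroupOf L).Normal := ⟨fun x hx l => by
      have hx' : (x : G) * y₁ = y₁ * x := mem_cent.mp (show (x : G) ∈ C y₁ from hx)
      show (l : G) * x * (l : G)⁻¹ ∈ C y₁
      have hz' := hLz _ (inv_mem l.2)
      rw [inv_inv] at hz'
      set d := (l : G)⁻¹ * y₁ * l * y₁⁻¹ with hddef
      have e : (l : G)⁻¹ * y₁ * l = d * y₁ := by rw [hddef, inv_mul_cancel_right]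
      refine mem_cent.mpr ?_
      calc (l : G) * x * (l : G)⁻¹ * y₁ = l * (x * ((l : G)⁻¹ * y₁ * l)) * (l : G)⁻¹ := by group
        _ = l * (((l : G)⁻¹ * y₁ * l) * x) * (l : G)⁻¹ := by
          rw [e, ((show Commute (x : G) d from mem_center_iff.mp hz' x).mul_right hx').eq]
        _ = y₁ * ((l : G) * x * (l : G)⁻¹) := by group⟩
    have hpow := Subgroup.pow_index_mem ((C y₁).subgroupOf L) ⟨g, hgL⟩
    set e := ((C y₁).subgroupOf L).index with hedef
    have hem : e ∣ m := by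
      rw [← show (C y₁).index = m from hy₁, ← relIndex_mul_index hLle]; exact dvd_mul_right _ _
    have hi : ∀ i : ℕ, g ^ i * y₁ * (g ^ i)⁻¹ = c ^ i * y₁ := by
      intro i
      induction i with
      | zero => simp
      | succ i ih =>
        rw [pow_succ' g i, mul_inv_rev, show g * g ^ i * y₁ * ((g ^ i)⁻¹ * g⁻¹) = g * (g ^ i * y₁ * (g ^ i)⁻¹) * g⁻¹ by group,
          ih, ← mul_assoc g, mem_center_iff.mp (pow_mem hcz i) g, mul_assoc (c ^ i), mul_assoc (c ^ i),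
          show g * y₁ * g⁻¹ = c * y₁ by rw [hcdef, inv_mul_cancel_right], ← mul_assoc, ← pow_succ]
    have h1 := hi e
    have h2 : g ^ e * y₁ = y₁ * g ^ e := mem_cent.mp hpow
    rw [h2, mul_inv_cancel_right, eq_comm, mul_eq_right] at h1
    obtain ⟨k, hk⟩ := hV₁r c hcV₁
    have hc1 : c = 1 := mem_bot.mp (ClassGraph.mem_of_pow_mem (S := (⊥ : Subgroup G))
      (((hr.coprime_iff_not_dvd.mpr fun hd' => h.not_dvd_m hr hrn (hd'.trans hem)).pow_left k))
      (by rw [hk]; exact one_mem _) (by rw [h1]; exact one_mem _))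
    rw [hcdef, mul_inv_eq_one, mul_inv_eq_iff_eq_mul] at hc1
    exact mem_cent.mpr hc1
  have hCz₂ : C z ≤ C y₂ := fun g hg => mem_cent.mpr (by
    have h1 : Commute g y₁ := mem_cent.mp (hCz hg)
    have h2 : Commute g z := mem_cent.mp hg
    have h3 := h1.inv_right.mul_right h2
    rwa [hzdef, inv_mul_cancel_left] at h3)
  have hzz : z ∉ center G := fun hz => by
    refine h.not_center_of_m hy₁ (key y₁ (hK₁a y₁ hy₁V) ?_)
    have h1 : Commute u z := mem_center_iff.mp hz u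
    have h3 := h1.mul_right (hu₂ y₂ hy₂V).inv_right
    rwa [hzdef, mul_inv_cancel_right] at h3
  -- all `p`-elements of the centraliser lie in both kernels
  have hf1 := h.fac_m hp hd (h.not_center_of_m hy₁)
  have hf2 := h.fac_m hp hd (h.not_center_of_m hy₂)
  have hfz := h.fac_m hp hd hzz
  rw [fac_one h hII hr hrn hy₀r hy₀ hp hd] at hf1 hf2 hfz
  have hKC₁ : K₁ ≤ C y₁ := hK₁a y₁ hy₁V
  have hKC₂ : K₂ ≤ C y₂ := fun x hx => mem_cent.mpr (mem_centralizer_iff.mp hx y₂ hy₂V).symm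
  by_cases hlt : fac p (K₁ ⊓ K₂) < fac p (C z)
  · obtain ⟨e, he, hep, henot⟩ := exists_pel_not_mem hlt
    exact henot ⟨pel_mem_normal hKC₁ (by omega) hep (hCz he), pel_mem_normal hKC₂ (by omega) hep (hCz₂ he)⟩
  · exact huK (pel_mem_normal (K := K₁ ⊓ K₂) (H := K₂) inf_le_right (by omega) hup huK₂).1

omit hr hrn hy₀r hy₀ in
theorem exists_special : False := by
  obtain ⟨r, hr, hrn, y₀, hy₀r, hy₀⟩ := exists_pi_base h hII
  obtain ⟨p, hp, hd⟩ := Nat.exists_prime_and_dvd (show m ≠ 1 by have := h.hm; omega)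
  exact caseTwo_false h hII hr hrn hy₀r hy₀ hp hd

end Cfsg.Agent.GroupStructure3.ThreeSizes
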