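import Mathlib
import Cfsg.Agent.GroupStructure3.ThreeSizes.AbelianCent
import Cfsg.Agent.GroupStructure3.ThreeSizes.CaseTwo
import Cfsg.Agent.S0564

/-!
`m` is a power of one prime and the abelian centraliser is normal.
-/

set_option autoImplicit false
set_option linter.style.haveILetI false
set_option linter.deprecated false
set_option linter.unusedSectionVars false

namespace Cfsg.Agent.GroupStructure3.ThreeSizes

open Subgroup ClassGraph
open scoped commutatorElement Pointwise IsMulCommutative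

variable {G : Type*} [Group G] [Finite G] {m n p q r : ℕ}

theorem Sizes.exists_special_elt (h : Sizes G m n) : ∃ p x, Special (G := G) m p x := by
  by_contra hcon
  push Not at hcon
  exact exists_special h fun p hp hd u hu huz =>
    (h.cases huz).resolve_left fun e => hcon p u ⟨hp, hd, hu, e⟩

theorem PEl.eq_one_of_commutator {w v : G} (hp : p.Prime) (hr : r.Prime) (hne : p ≠ r)
    (hwv : PEl p (w * v * w⁻¹ * v⁻¹)) (hv : PEl r v) (hc : Commute (w * v * w⁻¹) v) : Commute w v := by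
  have h1 : w * v * w⁻¹ * v⁻¹ = 1 := PEl.eq_one hp hr hne hwv ((hv.conj w).mul hc.inv_right hv.inv)
  rw [mul_inv_eq_one, mul_inv_eq_iff_eq_mul] at h1
  exact h1

theorem PEl.commute_of_central {w v : G} (hp : p.Prime) (hr : r.Prime) (hne : p ≠ r) (hw : PEl p w) (hv : PEl r v)
    (hz : w * v * w⁻¹ * v⁻¹ ∈ center G) : Commute w v := by
  set z := w * v * w⁻¹ * v⁻¹ with hzdef
  have e : w * v * w⁻¹ = z * v := by rw [hzdef, inv_mul_cancel_right]
  have hc : Commute (w * v * w⁻¹) v := e ▸ (show Commute z v from (mem_center_iff.mp hz v).symm).mul_left (Commute.refl v)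
  refine PEl.eq_one_of_commutator hp hr hne ?_ hv hc
  have e2 : w * v * w⁻¹ * v⁻¹ = w * (v * w⁻¹ * v⁻¹) := by group
  rw [← hzdef, hzdef, e2]
  refine hw.mul ?_ (hw.inv.conj v)
  have hzw : Commute z w := (mem_center_iff.mp hz w).symm
  have e3 : v * w⁻¹ * v⁻¹ = w⁻¹ * z := by rw [hzdef]; group
  rw [e3]
  exact (Commute.refl w).inv_right.mul_right hzw.symm

variable (h : Sizes G m n) {x : G} (s : Special m p x)
include h s

theorem Special.good {z : G} (hz : cs z = m) : ∀ w ∈ C z, w ∉ center G → C w = C z := by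
  obtain ⟨t, ht, v, hv, hvt, hvz⟩ := exists_component (h.not_center_of_m hz)
  have hle := C_le_of_mem_zpowers hv
  have hvm : cs v = m := h.eq_m_of_dvd hvz (index_dvd_of_le hle) hz
  have e : C z = C v := eq_of_le_of_cs hle (hz.trans hvm.symm)
  rw [e]
  intro w hw hwz
  rcases h.prime_cases ht hvt hvz with hd | hd
  · exact (⟨ht, hd, hvt, hvm⟩ : Special m t v).eq h hw hwz
  · obtain ⟨c, hc⟩ := s.pi_m_conj h ht hd hvt hvm
    rw [hc] at hw ⊢
    exact (s.conj c).eq h hw hwz

theorem Special.good_comm {z : G} (hz : cs z = m) : ∀ w ∈ C z, C z ≤ C w := by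
  intro w hw
  by_cases hwz : w ∈ center G
  · exact fun v _ => mem_cent.mpr (mem_center_iff.mp hwz v)
  · exact (s.good h hz w hw hwz).ge

theorem Special.eq_of_m {w z : G} (hz : cs z = m) (hw : w ∈ C z) (hwz : w ∉ center G) : cs w = m := by
  show (C w).index = m
  rw [s.good h hz w hw hwz]; exact hz

/-- Noncentral `π(n)`-elements have class size `m`. -/
theorem Special.pi_cs (hr : r.Prime) (hd : r ∣ n) {v : G} (hv : PEl r v) (hvz : v ∉ center G) : cs v = m := by
  haveI := Fact.mk hr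
  obtain ⟨R, hR⟩ := hv.isPGroup.exists_le_sylow
  obtain ⟨c, hc⟩ := exists_conj_le (h.not_dvd_cs_m hr hd s.hx) R
  have hv' := (s.conj c⁻¹).eq h ((ThreeSizes.C_conj c⁻¹ x).mpr (by simpa using hc v (hR (mem_zpowers v)))) hvz
  show (C v).index = m
  rw [hv']; exact (cs_conj c⁻¹ x).trans s.hx

theorem Special.exists_pi_noncentral (hr : r.Prime) (hd : r ∣ n) {z : G} (hz : cs z = m) :
    ∃ v ∈ C z, PEl r v ∧ v ∉ center G := by
  haveI := Fact.mk hr
  obtain ⟨R, -, hRz⟩ := exists_sylow_le (h.not_dvd_cs_m hr hd hz) (one_mem _) (PEl.one r)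
  by_contra hcon
  push Not at hcon
  obtain ⟨g₀, hg₀⟩ := h.ex_mn
  have hR : (R : Subgroup G) ≤ center G := fun y hy => hcon y (hRz hy) (PEl.of_isPGroup R.2 hy)
  refine R.not_dvd_index (dvd_trans ?_ (index_dvd_of_le hR))
  exact (show r ∣ cs g₀ from hg₀ ▸ hd.mul_left m).trans (index_dvd_of_le (center_le_C g₀))

theorem Special.mem_normalizer {g t : G} (ht : t ∈ C x) (htz : t ∉ center G) (hgt : g * t * g⁻¹ ∈ C x) :
    g ∈ normalizer (C x : Set G) := by
  have e1 := s.eq h ht htz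
  have e2 := s.eq h hgt fun hz => htz (by
    have := (inferInstance : (center G).Normal).conj_mem _ hz g⁻¹
    simpa [mul_assoc] using this)
  refine mem_normalizer_iff.mpr fun y => ?_
  show y ∈ C x ↔ g * y * g⁻¹ ∈ C x
  conv_rhs => rw [← e2, ThreeSizes.C_conj, show g⁻¹ * (g * y * g⁻¹) * g = y by group, e1]

theorem Special.fac_one_of_m [Fact q.Prime] (hd : q ∣ m) (P : Sylow q G) {w : G}
    (hw : CentralMod (P : Subgroup G) q w) (hwm : cs w = m) : m.factorization q = 1 := by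
  obtain ⟨r, hr, hrn⟩ := Nat.exists_prime_and_dvd (show n ≠ 1 by have := h.hn; omega)
  refine h.fac_eq_one Fact.out hd P hw hr (fun e => h.not_dvd_n Fact.out hd (e ▸ hrn)) ?_
    (fun k hk _ => s.good_comm h hwm k hk) ?_ (s.exists_pi_noncentral h hr hrn hwm)
  · exact fun a ha b hb _ _ => (show Commute b a from mem_cent.mp (s.good_comm h hwm a ha hb)).symm
  · intro g hg k hk hkr hkz hgk k' hk' hk'r
    exact mem_cent.mp (s.good_comm h hwm k' hk' ((s.good h hwm k hk hkz).le (mem_cent.mpr hgk.eq)))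

theorem Special.fac_one_of_two (hq : q.Prime) (hqd : q ∣ m) (hr : r.Prime) (hrd : r ∣ m) (hne : q ≠ r) :
    m.factorization q = 1 := by
  haveI := Fact.mk hq
  obtain ⟨P⟩ : Nonempty (Sylow q G) := inferInstance
  obtain ⟨v, hv, hvz⟩ := h.exists_pel hq hqd
  obtain ⟨c, hcv⟩ := exists_conj_mem P hv
  have hne' : ∃ t ∈ (P : Subgroup G), t ∉ center G := ⟨_, hcv, fun hz => hvz (by
    have hz' : c * (c⁻¹ * v * c) * c⁻¹ ∈ center G := by
      rw [mem_center_iff.mp hz c, mul_inv_cancel_right]; exact hz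
    rwa [show c * (c⁻¹ * v * c) * c⁻¹ = v by group] at hz')⟩
  obtain ⟨w, hwP, hwz, hwp, hwc⟩ := exists_central_mod hq P.2 (T := (P : Subgroup G)) le_rfl
    (fun g hg t ht => mul_mem (mul_mem hg ht) (inv_mem hg)) hne'
  have hw : CentralMod (P : Subgroup G) q w := ⟨hwP, hwz, hwp, hwc⟩
  have hwq : PEl q w := PEl.of_isPGroup P.2 hwP
  rcases h.cases hwz with hwm | hwm
  · exact s.fac_one_of_m h hqd P hw hwm
  have hall : ∀ k ∈ C w, k ∉ center G → cs k = m * n := fun k hk hkz =>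
    (h.cases hkz).resolve_left fun e => h.m_ne_mn ((s.eq_of_m h e (mem_C_comm.mp hk) hwz).symm.trans hwm)
  obtain ⟨k₀, hk₀, hk₀r, hk₀z⟩ := h.exists_pel_cent hr hrd hwz
  have hab := h.C_comm hq hr hne hwq hk₀r hwm (hall k₀ hk₀ hk₀z) hk₀
  refine h.fac_eq_one hq hqd P hw hr hne.symm
    (fun a ha b hb _ _ => (show Commute b a from mem_cent.mp (hab a ha hb)).symm) (fun k hk _ => hab k hk) ?_
    ⟨k₀, hk₀, hk₀r, hk₀z⟩
  intro g hg k hk hkr hkz hgk k' hk' _
  refine mem_cent.mp (hab k' hk' ?_)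
  rw [h.C_eq hwm (hall k hk hkz) hk (hwq.coprime hq hr hne hkr)]
  exact mem_cent.mpr hgk.eq

theorem Special.comm_C : ∀ a ∈ C x, ∀ b ∈ C x, Commute a b := fun a ha b hb =>
  (show Commute b a from mem_cent.mp (s.le_C h ha hb)).symm

/-- The elements of class size `m` have the normal centraliser `C x`. -/
theorem Special.m_eq_of_normal [(C x).Normal] {z : G} (hz : cs z = m) : C z = C x := by
  obtain ⟨r, hr, hrn⟩ := Nat.exists_prime_and_dvd (show n ≠ 1 by have := h.hn; omega)
  haveI := Fact.mk hr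
  obtain ⟨v, hv, hvr, hvz⟩ := s.exists_pi_noncentral h hr hrn hz
  have hvx : v ∈ C x := by
    obtain ⟨R, hR⟩ := hvr.isPGroup.exists_le_sylow
    obtain ⟨c, hc⟩ := exists_conj_le (h.not_dvd_cs_m hr hrn s.hx) R
    have h1 := (inferInstance : (C x).Normal).conj_mem _ (hc v (hR (mem_zpowers v))) c⁻¹
    simpa [mul_assoc] using h1
  rw [← s.good h hz v hv hvz, s.eq h hvx hvz]

/-- The `t`-elements of `C x`. -/
def Special.part (t : ℕ) : Subgroup G := pelSub t (C x) fun a ha b hb _ _ => s.comm_C h a ha b hb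

theorem Special.mem_part {t : ℕ} {g : G} : g ∈ s.part h t ↔ g ∈ C x ∧ PEl t g := Iff.rfl

theorem Special.part_isPGroup (t : ℕ) : IsPGroup t (s.part h t) := by
  rintro ⟨g, -, k, hk⟩
  exact ⟨k, Subtype.ext (by simpa using hk)⟩

theorem Special.part_fac (t : ℕ) [Fact t.Prime] : fac t (s.part h t) = fac t (C x) := by
  refine le_antisymm (fac_mono fun g hg => hg.1) ?_
  by_contra hlt
  obtain ⟨v, hv, hvt, hn⟩ := exists_pel_not_mem (not_le.mp hlt)
  exact hn ⟨hv, hvt⟩

theorem Special.normal_part [(C x).Normal] (t : ℕ) : (s.part h t).Normal :=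
  ⟨fun _ ha g => ⟨(inferInstance : (C x).Normal).conj_mem _ ha.1 g, ha.2.conj g⟩⟩

theorem Special.normalizer_of_fac_one [Fact q.Prime] (hd : q ∣ m) (h1 : m.factorization q = 1) :
    ∃ Q : Sylow q G, (Q : Subgroup G) ≤ normalizer (C x : Set G) := by
  obtain ⟨Q, hQ⟩ := (s.part_isPGroup h q).exists_le_sylow
  have hf := h.fac_m Fact.out hd (h.not_center_of_m s.hx)
  rw [← s.part_fac h q, h1] at hf
  have hfQ : fac q (Q : Subgroup G) = (Nat.card G).factorization q := fac_eq_of_card Fact.out Q.card_eq_multiplicity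
  have hN := le_normalizer_of_card_eq Q.2 hQ (by omega)
  obtain ⟨t, ht, htq, htz⟩ := h.exists_pel_cent Fact.out hd (h.not_center_of_m s.hx)
  exact ⟨Q, fun g hg => s.mem_normalizer h ht htz (((Subgroup.mem_normalizer_iff.mp (hN hg)) t).mp ⟨ht, htq⟩).1⟩

theorem Special.normal_of_squarefree (hsq : ∀ q, Nat.Prime q → q ∣ m → m.factorization q = 1) : (C x).Normal := by
  rw [← normalizer_eq_top_iff, ← index_eq_one]
  refine Nat.eq_one_iff_not_exists_prime_dvd.mpr fun q hq hdvd => ?_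
  haveI := Fact.mk hq
  have hqm : q ∣ m := hdvd.trans ((index_dvd_of_le (le_normalizer : C x ≤ _)).trans (dvd_of_eq s.hx))
  obtain ⟨Q, hQ⟩ := s.normalizer_of_fac_one h hqm (hsq q hq hqm)
  exact Q.not_dvd_index (hdvd.trans (index_dvd_of_le hQ))

theorem Special.mn_of_not_mem [(C x).Normal] {u : G} (hu : u ∉ C x) : cs u = m * n :=
  (h.cases fun hz => hu (center_le_C x hz)).resolve_left fun e => hu ((s.m_eq_of_normal h e).le (self_mem_C u))

theorem Special.not_commute [(C x).Normal] {u v : G} (hu : u ∉ C x) (hv : v ∈ C x) (hc : Commute u v) :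
    v ∈ center G := by
  by_contra hvz
  exact hu ((s.eq h hv hvz).le (mem_cent.mpr hc.eq))

/-- With two primes in `m`, each is one more than a multiple of the other. -/
theorem Special.dvd_sub_one [(C x).Normal] {p₁ q₁ : ℕ} (hp₁ : p₁.Prime) (hd₁ : p₁ ∣ m) (hq₁ : q₁.Prime)
    (hd₂ : q₁ ∣ m) (hne : p₁ ≠ q₁) (h1 : m.factorization q₁ = 1) : p₁ < q₁ := by
  haveI := Fact.mk hp₁
  haveI := Fact.mk hq₁
  obtain ⟨u, -, hu, hux⟩ := exists_pel_not_mem (p := p₁) (H := (⊤ : Subgroup G)) (K := C x) (by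
    have := h.fac_m hp₁ hd₁ (h.not_center_of_m s.hx)
    have := h.fac_pos hp₁ hd₁
    have e : fac p₁ (⊤ : Subgroup G) = (Nat.card G).factorization p₁ := by rw [fac, Subgroup.card_top]
    omega)
  have hum := s.mn_of_not_mem h hux
  have huz := h.not_center_of_mn hum
  obtain ⟨v, hv, hvq, hvz⟩ := h.exists_pel_cent hq₁ hd₂ huz
  have hvx : v ∉ C x := fun hvx =>
    hvz (s.not_commute h hux hvx (show Commute v u from mem_cent.mp hv).symm)
  have hvm := s.mn_of_not_mem h hvx
  have hab := h.C_comm hp₁ hq₁ hne hu hvq hum hvm hv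
  set Dq := pelSub q₁ (C u) (fun a ha b hb _ _ => (show Commute b a from mem_cent.mp (hab a ha hb)).symm) with hDq
  have hDp : IsPGroup q₁ Dq := by
    rintro ⟨g, -, k, hk⟩
    exact ⟨k, Subtype.ext (by simpa using hk)⟩
  have hDf : fac q₁ (C u) ≤ fac q₁ Dq := by
    by_contra hlt
    obtain ⟨a, ha, haq, hn⟩ := exists_pel_not_mem (not_le.mp hlt)
    exact hn ⟨ha, haq⟩
  obtain ⟨Q, hQ⟩ := hDp.exists_le_sylow
  set V := s.part h q₁ with hV
  haveI : V.Normal := s.normal_part h q₁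
  have hVQ : V ≤ (Q : Subgroup G) := (Cores.le_pCore (s.part_isPGroup h q₁)).trans (Cores.pCore_le_sylow Q)
  set F := V ⊓ center G with hF
  have hfu := h.fac_m hq₁ hd₂ huz
  rw [h1] at hfu
  have hfQ : fac q₁ (Q : Subgroup G) = (Nat.card G).factorization q₁ := fac_eq_of_card hq₁ Q.card_eq_multiplicity
  have hQD : Dq.relIndex (Q : Subgroup G) ≤ q₁ := by
    have h2 := fac_add_relIndex q₁ hQ
    obtain ⟨k, hk⟩ : ∃ k, Dq.relIndex (Q : Subgroup G) = q₁ ^ k := by
      obtain ⟨k, -, hk⟩ := (Nat.dvd_prime_pow hq₁).mp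
        ((Subgroup.relIndex_dvd_card Dq (Q : Subgroup G)).trans (dvd_of_eq Q.card_eq_multiplicity))
      exact ⟨k, hk⟩
    rw [hk, hq₁.factorization_pow, Finsupp.single_eq_same] at h2
    calc Dq.relIndex (Q : Subgroup G) = q₁ ^ k := hk
      _ ≤ q₁ ^ 1 := Nat.pow_le_pow_right hq₁.pos (by omega)
      _ = q₁ := pow_one _
  have hFV : F.relIndex V ≤ q₁ := by
    refine le_trans (le_trans ?_ (relIndex_le_of_le_right hVQ (relIndex_ne_zero' Dq _))) hQD
    refine Nat.le_of_dvd (Nat.pos_of_ne_zero (relIndex_ne_zero' _ _)) ?_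
    rw [← inf_relIndex_right Dq V]
    refine relIndex_dvd_of_le_left V fun a ha => ⟨ha.2, ?_⟩
    exact s.not_commute h hux ha.2.1 (show Commute a u from mem_cent.mp ha.1.1).symm
  have hFne : F.relIndex V ≠ 1 := fun e => by
    obtain ⟨t, ht, htq, htz⟩ := h.exists_pel_cent hq₁ hd₂ (h.not_center_of_m s.hx)
    exact htz (relIndex_eq_one.mp e (⟨ht, htq⟩ : t ∈ V)).2
  have hFq : F.relIndex V = q₁ := by
    obtain ⟨k, hk⟩ := IsPGroup.iff_card.mp (s.part_isPGroup h q₁)
    obtain ⟨i, -, hi⟩ := (Nat.dvd_prime_pow hq₁).mp ((Subgroup.relIndex_dvd_card F V).trans (dvd_of_eq hk))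
    rcases i with - | i
    · exact absurd (by rw [hi, pow_zero]) hFne
    · refine le_antisymm hFV ?_
      rw [hi]; exact Nat.le_self_pow (Nat.succ_ne_zero i) q₁
  have hmod := index_modEq_one (V := V) (F := F) hu inf_le_left
    (fun a ha b hb => s.comm_C h a ha.1 b hb.1) (fun a ha => (inferInstance : V.Normal).conj_mem a ha u)
    (fun a ha => ⟨(inferInstance : V.Normal).conj_mem a ha.1 u, (inferInstance : (center G).Normal).conj_mem a ha.2 u⟩)
    (fun a ha ha' => ⟨ha, s.not_commute h hux ha.1 (PEl.commute_of_central hp₁ hq₁ hne hu ha.2 ha'.2)⟩)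
  rw [hFq] at hmod
  have hd : p₁ ∣ q₁ - 1 := (Nat.modEq_iff_dvd' hq₁.one_le).mp hmod.symm
  have := Nat.le_of_dvd (by have := hq₁.two_le; omega) hd
  have := hq₁.two_le
  omega

theorem Special.prime_unique (hq : q.Prime) (hqd : q ∣ m) : q = p := by
  by_contra hne
  have hsq : ∀ t, Nat.Prime t → t ∣ m → m.factorization t = 1 := fun t ht htd => by
    rcases eq_or_ne t p with rfl | htp
    · exact s.fac_one_of_two h ht htd hq hqd (Ne.symm hne)
    · exact s.fac_one_of_two h ht htd s.hp s.hd htp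
  haveI := s.normal_of_squarefree h hsq
  have h1 := s.dvd_sub_one h s.hp s.hd hq hqd (Ne.symm hne) (hsq q hq hqd)
  have h2 := s.dvd_sub_one h hq hqd s.hp s.hd hne (hsq p s.hp s.hd)
  omega

theorem Special.normal : (C x).Normal := by
  haveI := Fact.mk s.hp
  obtain ⟨P⟩ : Nonempty (Sylow p G) := inferInstance
  have hprod : ∀ g : G, ∃ a ∈ C x, ∃ b ∈ (P : Subgroup G), g = a * b := by
    intro g
    refine exists_mul_of_coprime (A := (P : Subgroup G)) (B := C x) ?_ g
    refine Nat.coprime_of_dvd fun t ht h1 h2 => P.not_dvd_index ?_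
    rw [show (C x).index = m from s.hx] at h2
    obtain rfl := s.prime_unique h ht h2; exact h1
  haveI : IsMulCommutative (C x) := ⟨⟨fun a b => Subtype.ext (s.comm_C h a a.2 b b.2)⟩⟩
  haveI : Group.IsSolvable G :=
    Cfsg.Agent.S0564.result (C x) (P : Subgroup G) inferInstance P.2.isNilpotent hprod
  obtain ⟨d, hd⟩ := Group.isSolvable_def G |>.mp inferInstance
  classical
  have hex : ∃ k, derivedSeries G k ≤ center G := ⟨d, hd ▸ bot_le⟩
  obtain ⟨k, hk⟩ : ∃ k, Nat.find hex = k + 1 := by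
    refine Nat.exists_eq_succ_of_ne_zero fun e => ?_
    have h1 := Nat.find_spec hex
    rw [e, derivedSeries_zero] at h1
    exact h.not_center_of_m s.hx (h1 (Subgroup.mem_top x))
  have hk1 : derivedSeries G (k + 1) ≤ center G := hk ▸ Nat.find_spec hex
  have hk0 : ¬ derivedSeries G k ≤ center G := Nat.find_min hex (by omega)
  set N := derivedSeries G k with hN
  haveI : N.Normal := derivedSeries_normal G k
  have hNN : ∀ a ∈ N, ∀ b ∈ N, a * b * a⁻¹ * b⁻¹ ∈ center G := fun a ha b hb => hk1 (by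
    rw [derivedSeries_succ, ← commutatorElement_def]
    exact commutator_mem_commutator ha hb)
  haveI : Group.IsNilpotent N := by
    refine Subgroup.isNilpotent_of_ker_le_center (Abelianization.of (G := N)) ?_
    rw [Abelianization.ker_of, _root_.commutator_def, commutator_le]
    intro a _ b _
    rw [mem_center_iff]
    intro c
    refine Subtype.ext ?_
    have := mem_center_iff.mp (hNN a a.2 b b.2) c
    rw [commutatorElement_def]
    exact this
  obtain ⟨r, hr, g₀, hg₀N, hg₀r, hg₀z⟩ : ∃ r : ℕ, r.Prime ∧ ∃ g₀ ∈ N, PEl r g₀ ∧ g₀ ∉ center G := by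
    obtain ⟨g, hg, hgz⟩ := SetLike.not_le_iff_exists.mp hk0
    obtain ⟨t, ht, v, hv, hvt, hvz⟩ := exists_component hgz
    exact ⟨t, ht, v, zpowers_le.mpr hg hv, hvt, hvz⟩
  haveI := Fact.mk hr
  obtain ⟨S⟩ : Nonempty (Sylow r N) := inferInstance
  haveI : (S : Subgroup N).Normal := Sylow.normal_of_normalizerCondition normalizerCondition_of_isNilpotent S
  haveI : (S : Subgroup N).Characteristic := S.characteristic_of_normal inferInstance
  set Q := (S : Subgroup N).map N.subtype with hQdef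
  haveI : Q.Normal := Cores.normal_map_subtype N S
  have hQr : IsPGroup r Q := S.2.map _
  have hmemQ : ∀ v ∈ N, PEl r v → v ∈ Q := fun v hv hvr => by
    refine ⟨⟨v, hv⟩, ?_, rfl⟩
    obtain ⟨S', hS'⟩ := (PEl.sub (g := (⟨v, hv⟩ : N)) hvr).isPGroup.exists_le_sylow
    obtain ⟨c, rfl⟩ := MulAction.exists_smul_eq N S S'
    rw [Sylow.smul_eq_of_normal] at hS'
    exact hS' (mem_zpowers _)
  have hg₀Q := hmemQ g₀ hg₀N hg₀r
  have hQN : Q ≤ N := map_subtype_le _
  have hfin : ∀ {t}, t ∈ Q → t ∉ center G → Q ≤ C x → (C x).Normal := fun {t} ht htz hle => by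
    rw [← normalizer_eq_top_iff, eq_top_iff]
    exact fun g _ => s.mem_normalizer h (hle ht) htz (hle ((inferInstance : Q.Normal).conj_mem t ht g))
  rcases h.prime_cases hr hg₀r hg₀z with hrm | hrn
  · obtain rfl : r = p := s.prime_unique h hr hrm
    by_cases hh : ∃ t ∈ Q, t ∈ C x ∧ t ∉ center G
    · obtain ⟨t, htQ, htx, htz⟩ := hh
      refine hfin htQ htz fun w hw => ?_
      have hwn : w ∈ normalizer (C x : Set G) := s.mem_normalizer h htx htz (by
        rw [show w * t * w⁻¹ = (w * t * w⁻¹ * t⁻¹) * t by group]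
        exact mul_mem (center_le_C x (hNN w (hQN hw) t (hQN htQ))) htx)
      obtain ⟨r', hr', hr'n⟩ := Nat.exists_prime_and_dvd (show n ≠ 1 by have := h.hn; omega)
      obtain ⟨v, hv, hvr, hvz⟩ := s.exists_pi_noncentral h hr' hr'n s.hx
      rw [← s.eq h hv hvz]
      refine mem_cent.mpr (PEl.eq_one_of_commutator hr hr' (s.ne_of_dvd_n h hr' hr'n) ?_ hvr
        (s.comm_C h _ ((Subgroup.mem_normalizer_iff.mp hwn v).mp hv) v hv)).eq
      refine PEl.of_isPGroup hQr ?_
      rw [show w * v * w⁻¹ * v⁻¹ = w * (v * w⁻¹ * v⁻¹) by group]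
      exact mul_mem hw ((inferInstance : Q.Normal).conj_mem _ (inv_mem hw) v)
    · exfalso
      push Not at hh
      obtain ⟨t, ht, htp, htz⟩ := h.exists_pel_cent hr hrm (h.not_center_of_m s.hx)
      obtain ⟨P', hP'⟩ := htp.isPGroup.exists_le_sylow
      have hQP : Q ≤ (P' : Subgroup G) := (Cores.le_pCore hQr).trans (Cores.pCore_le_sylow P')
      obtain ⟨w, hwQ, hwz, -, hwc⟩ := exists_central_mod hr P'.2 hQP
        (fun g _ a ha => (inferInstance : Q.Normal).conj_mem a ha g) ⟨g₀, hg₀Q, hg₀z⟩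
      obtain ⟨r', hr', hr'n⟩ := Nat.exists_prime_and_dvd (show n ≠ 1 by have := h.hn; omega)
      obtain ⟨v, hv, hvr, hvz⟩ := s.exists_pi_noncentral h hr' hr'n s.hx
      set z := t * w * t⁻¹ * w⁻¹ with hzdef
      have hz : z ∈ center G := hwc t (hP' (mem_zpowers t))
      have e1 : t * w * t⁻¹ = z * w := by rw [hzdef, inv_mul_cancel_right]
      set w₁ := v * w * v⁻¹ with hw₁
      have hw₁Q : w₁ ∈ Q := (inferInstance : Q.Normal).conj_mem w hwQ v
      have hvt : v * t * v⁻¹ = t := mul_inv_eq_iff_eq_mul.mpr (s.comm_C h v hv t ht).eq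
      have e2 : t * w₁ * t⁻¹ = z * w₁ := by
        calc t * w₁ * t⁻¹ = (v * t * v⁻¹) * (v * w * v⁻¹) * (v * t * v⁻¹)⁻¹ := by rw [hvt, hw₁]
          _ = v * (t * w * t⁻¹) * v⁻¹ := by group
          _ = z * w₁ := by rw [e1, ← mul_assoc v, mem_center_iff.mp hz v, hw₁]; group
      have hd : w₁ * w⁻¹ ∈ C x := by
        rw [← s.eq h ht htz]
        refine mem_cent.mpr (mul_inv_eq_iff_eq_mul.mp ?_).symm
        calc t * (w₁ * w⁻¹) * t⁻¹ = (t * w₁ * t⁻¹) * (t * w * t⁻¹)⁻¹ := by group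
          _ = z * (w₁ * w⁻¹) * z⁻¹ := by rw [e1, e2]; group
          _ = w₁ * w⁻¹ := by rw [← mem_center_iff.mp hz, mul_inv_cancel_right]
      have hdz := hh _ (mul_mem hw₁Q (inv_mem hwQ)) hd
      have hcomm := PEl.commute_of_central hr' hr (s.ne_of_dvd_n h hr' hr'n).symm hvr (PEl.of_isPGroup hQr hwQ) hdz
      exact hwz (hh w hwQ ((s.eq h hv hvz).le (mem_cent.mpr hcomm.symm.eq)))
  · refine hfin hg₀Q hg₀z fun a ha => ?_
    obtain ⟨R, hR⟩ := hQr.exists_le_sylow
    obtain ⟨c, hc⟩ := exists_conj_le (h.not_dvd_cs_m hr hrn s.hx) R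
    have h1 := hc _ (hR ((inferInstance : Q.Normal).conj_mem a ha c⁻¹))
    simpa [mul_assoc] using h1

end Cfsg.Agent.GroupStructure3.ThreeSizes
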