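import Mathlib
import Cfsg.Agent.GroupStructure3.ThreeSizes.CaseOne

/-!
The structure of groups with class sizes `1`, `m`, `m * n`.
-/

set_option autoImplicit false
set_option linter.style.haveILetI false
set_option linter.deprecated false
set_option linter.unusedSectionVars false

namespace Cfsg.Agent.GroupStructure3.ThreeSizes

open Subgroup ClassGraph
open scoped commutatorElement Pointwise

variable {G : Type*} [Group G] [Finite G] {m n p : ℕ} (h : Sizes G m n) {x : G} (s : Special m p x)
include h s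

theorem Special.eq_prime : m = p := by
  haveI := Fact.mk s.hp
  haveI := s.normal h
  set S := s.part h p with hS
  haveI : S.Normal := s.normal_part h p
  obtain ⟨P⟩ : Nonempty (Sylow p G) := inferInstance
  have hSP : S ≤ (P : Subgroup G) := (Cores.le_pCore (s.part_isPGroup h p)).trans (Cores.pCore_le_sylow P)
  obtain ⟨w, hwS, hwz, hwp, hwc⟩ := exists_central_mod s.hp P.2 hSP
    (fun g _ a ha => (inferInstance : S.Normal).conj_mem a ha g)
    ⟨x, ⟨self_mem_C x, s.hpel⟩, h.not_center_of_m s.hx⟩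
  have h1 := s.fac_one_of_m h s.hd P ⟨hSP hwS, hwz, hwp, hwc⟩ (by
    show (C w).index = m
    rw [s.eq h hwS.1 hwz]; exact s.hx)
  have h2 := Nat.eq_prime_pow_of_unique_prime_dvd (show m ≠ 0 by have := h.hm; omega)
    (fun hq hqd => s.prime_unique h hq hqd)
  generalize m.primeFactorsList.length = k at h2
  rw [h2, s.hp.factorization_pow, Finsupp.single_eq_same] at h1
  rw [h2, h1, pow_one]

theorem Special.set_eq : (C x : Set G) = {g : G | cs g = 1 ∨ cs g = m} := by
  haveI := s.normal h
  ext g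
  constructor
  · intro hg
    by_cases hgz : g ∈ center G
    · exact Or.inl (cs_eq_one_iff.mpr hgz)
    · exact Or.inr (s.eq_of_m h s.hx hg hgz)
  · rintro (e | e)
    · exact center_le_C x (cs_eq_one_iff.mp e)
    · exact (s.m_eq_of_normal h e).le (self_mem_C g)

theorem Special.complement :
    ∃ N : Subgroup G, N.Normal ∧ (Nat.card N).Coprime p ∧ ∃ a : ℕ, N.index = p ^ a := by
  haveI := s.normal h
  haveI := Fact.mk s.hp
  let N : Subgroup G :=
    { carrier := {v | v ∈ C x ∧ (orderOf v).Coprime p}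
      one_mem' := ⟨one_mem _, by rw [orderOf_one]; exact Nat.coprime_one_left p⟩
      mul_mem' := fun {a b} ha hb => ⟨mul_mem ha.1 hb.1,
        (Nat.Coprime.mul_left ha.2 hb.2).coprime_dvd_left (s.comm_C h a ha.1 b hb.1).orderOf_mul_dvd_mul_orderOf⟩
      inv_mem' := fun {a} ha => ⟨inv_mem ha.1, by rw [orderOf_inv]; exact ha.2⟩ }
  haveI hN : N.Normal := ⟨fun a ha g => ⟨(inferInstance : (C x).Normal).conj_mem _ ha.1 g, by
    rw [← MulAut.conj_apply, MulEquiv.orderOf_eq]; exact ha.2⟩⟩
  refine ⟨N, hN, ?_, ?_⟩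
  · refine Nat.Coprime.symm (s.hp.coprime_iff_not_dvd.mpr fun hd => ?_)
    obtain ⟨⟨a, ha, hap⟩, hao⟩ := exists_prime_orderOf_dvd_card' (G := N) p hd
    rw [← Subgroup.orderOf_coe] at hao
    change orderOf a = p at hao
    rw [hao, Nat.coprime_self] at hap
    exact s.hp.one_lt.ne' hap
  · refine ⟨_, Nat.eq_prime_pow_of_unique_prime_dvd index_ne_zero_of_finite fun {t} ht hd => ?_⟩
    by_contra htp
    haveI := Fact.mk ht
    obtain ⟨T, -, hT⟩ := exists_sylow_le (r := t) (H := C x) (by
      rw [show (C x).index = m from s.hx, s.eq_prime h]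
      exact fun hd' => htp ((Nat.prime_dvd_prime_iff_eq ht s.hp).mp hd')) (one_mem _) (PEl.one t)
    refine T.not_dvd_index (hd.trans (index_dvd_of_le fun v hv => ⟨hT hv, ?_⟩))
    obtain ⟨k, hk⟩ := (PEl.of_isPGroup T.2 hv).orderOf_dvd
    exact (((Nat.coprime_primes ht s.hp).mpr htp).pow_left k).coprime_dvd_left hk

theorem Special.final (P : Sylow p G) :
    p ∣ n - 1 ∧ Nat.card (commutator (P : Subgroup G)) = p := by
  haveI := Fact.mk s.hp
  haveI := s.normal h
  have hmp := s.eq_prime h
  set M := C x with hMdef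
  have hMi : M.index = p := (show (C x).index = m from s.hx).trans hmp
  set S := s.part h p with hS
  haveI : S.Normal := s.normal_part h p
  have hSP : S ≤ (P : Subgroup G) := (Cores.le_pCore (s.part_isPGroup h p)).trans (Cores.pCore_le_sylow P)
  obtain ⟨w, hwS, hwz, hwp, hwc⟩ := exists_central_mod s.hp P.2 hSP
    (fun g _ a ha => (inferInstance : S.Normal).conj_mem a ha g)
    ⟨x, ⟨self_mem_C x, s.hpel⟩, h.not_center_of_m s.hx⟩
  obtain ⟨u, huP, huM⟩ : ∃ u ∈ (P : Subgroup G), u ∉ M := by
    by_contra hcon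
    push Not at hcon
    exact P.not_dvd_index ((dvd_of_eq hMi.symm).trans (index_dvd_of_le (hcon : (P : Subgroup G) ≤ M)))
  have hup : PEl p u := PEl.of_isPGroup P.2 huP
  have hum := s.mn_of_not_mem h huM
  have hCu : C u ⊓ M ≤ center G := fun v hv =>
    s.not_commute h huM hv.2 (show Commute v u from mem_cent.mp hv.1).symm
  have hupM : u ^ p ∈ M := by
    have := Subgroup.pow_index_mem M u
    rwa [hMi] at this
  have hconj : ∀ g, ∀ v ∈ M, g * v * g⁻¹ ∈ M := fun g v hv => (inferInstance : M.Normal).conj_mem v hv g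
  have hcomm : ∀ v ∈ M, ∀ v' ∈ M, Commute v v' := s.comm_C h
  -- index of the centre in `M`
  have hZM : (center G).relIndex M = p * n := by
    have hZ : M ⊓ C u = center G :=
      le_antisymm (fun v hv => hCu ⟨hv.2, hv.1⟩) (le_inf (center_le_C x) (center_le_C u))
    have h1 : M.relIndex (C u) ∣ M.index := relIndex_dvd_index_of_normal M (C u)
    rw [hMi] at h1
    rcases (Nat.dvd_prime s.hp).mp h1 with e | e
    · exact absurd ((relIndex_eq_one.mp e) (self_mem_C u)) huM
    have e2 : (center G).relIndex (C u) = p := by rw [← hZ, inf_relIndex_right, e]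
    have h3 := relIndex_mul_index (center_le_C u)
    have h4 := relIndex_mul_index (center_le_C x)
    rw [e2, show (C u).index = m * n from hum, hmp] at h3
    rw [show (C x).index = p from hMi, ← h3, mul_comm p (p * n)] at h4
    exact Nat.eq_of_mul_eq_mul_right s.hp.pos h4
  let F : Subgroup G :=
    { carrier := {v | v ∈ M ∧ u * v * u⁻¹ * v⁻¹ ∈ center G}
      one_mem' := ⟨one_mem _, by simp⟩
      mul_mem' := fun {a b} ha hb => ⟨mul_mem ha.1 hb.1, by
        rw [show u * (a * b) * u⁻¹ * (a * b)⁻¹ = (u * a * u⁻¹) * (u * b * u⁻¹ * b⁻¹) * a⁻¹ by group,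
          mem_center_iff.mp hb.2 (u * a * u⁻¹), mul_assoc]
        exact mul_mem hb.2 ha.2⟩
      inv_mem' := fun {a} ha => ⟨inv_mem ha.1, by
        have e := (hcomm a⁻¹ (inv_mem ha.1) _ (hconj u a⁻¹ (inv_mem ha.1))).eq
        rw [show u * a⁻¹ * u⁻¹ * a⁻¹⁻¹ = (a⁻¹ * (u * a * u⁻¹))⁻¹ by group,
          (hcomm a⁻¹ (inv_mem ha.1) _ (hconj u a ha.1)).eq]
        exact inv_mem ha.2⟩ }
  have hFM : F ≤ M := fun v hv => hv.1
  have hZF : center G ≤ F := fun v hv => ⟨center_le_C x hv, by
    rw [mem_center_iff.mp hv u, mul_inv_cancel_right, mul_inv_cancel]; exact one_mem _⟩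
  have hwF : w ∈ F := ⟨hwS.1, hwc u huP⟩
  -- `u` acts on `F` by central elements of order dividing `p`
  have hzp : ∀ v ∈ F, (u * v * u⁻¹ * v⁻¹) ^ p = 1 ∧ v ^ p ∈ center G := by
    intro v hv
    set z := u * v * u⁻¹ * v⁻¹ with hzdef
    have hz : z ∈ center G := hv.2
    have e : u * v * u⁻¹ = z * v := by rw [hzdef, inv_mul_cancel_right]
    have hi : ∀ i : ℕ, u ^ i * v * (u ^ i)⁻¹ = z ^ i * v := by
      intro i
      induction i with
      | zero => simp
      | succ i ih =>
        rw [pow_succ' u i, mul_inv_rev, show u * u ^ i * v * ((u ^ i)⁻¹ * u⁻¹) = u * (u ^ i * v * (u ^ i)⁻¹) * u⁻¹ by group,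
          ih, ← mul_assoc u, mem_center_iff.mp (pow_mem hz i) u, mul_assoc (z ^ i), mul_assoc (z ^ i), e,
          ← mul_assoc, ← pow_succ]
    have h1 := hi p
    rw [(hcomm _ hupM v hv.1).eq, mul_inv_cancel_right, eq_comm, mul_eq_right] at h1
    refine ⟨h1, hCu ⟨mem_cent.mpr ?_, pow_mem hv.1 p⟩⟩
    have e2 : u * v ^ p * u⁻¹ = v ^ p := by
      rw [← conj_pow, e, (show Commute z v from (mem_center_iff.mp hz v).symm).mul_pow, h1, one_mul]
    exact (mul_inv_eq_iff_eq_mul.mp e2).symm
  have hZFp : (center G).relIndex F = p := by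
    have hd : (center G).relIndex F ∣ p * n := by
      rw [← hZM]; exact Dvd.intro _ (relIndex_mul_relIndex _ _ _ hZF hFM)
    have h2 : ∀ {t}, t.Prime → t ∣ (center G).relIndex F → t = p := by
      intro t ht htd
      haveI := Fact.mk ht
      rw [relIndex, Subgroup.index_eq_card] at htd
      obtain ⟨q, hq⟩ := exists_prime_orderOf_dvd_card' (G := F ⧸ (center G).subgroupOf F) t htd
      obtain ⟨f, rfl⟩ := QuotientGroup.mk_surjective q
      have h3 : (f : F ⧸ (center G).subgroupOf F) ^ p = 1 := by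
        rw [← QuotientGroup.mk_pow, QuotientGroup.eq_one_iff, mem_subgroupOf]
        simpa using (hzp f f.2).2
      exact (Nat.prime_dvd_prime_iff_eq ht s.hp).mp (hq ▸ orderOf_dvd_of_pow_eq_one h3)
    obtain ⟨k, hk⟩ : ∃ k, (center G).relIndex F = p ^ k :=
      ⟨_, Nat.eq_prime_pow_of_unique_prime_dvd (relIndex_ne_zero' _ _) h2⟩
    rcases k with - | k
    · exact absurd (relIndex_eq_one.mp (hk.trans (pow_zero p)) hwF) hwz
    rcases k with - | k
    · rw [hk, pow_one]
    · exfalso
      rw [hk, pow_succ, pow_succ, mul_comm _ p] at hd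
      refine h.not_dvd_n s.hp s.hd (Nat.dvd_of_mul_dvd_mul_left s.hp.pos (dvd_trans ?_ hd))
      exact mul_dvd_mul_left p (dvd_mul_left p _)
  have hFn : F.relIndex M = n := by
    have h1 := relIndex_mul_relIndex _ _ _ hZF hFM
    rw [hZFp, hZM] at h1
    exact Nat.eq_of_mul_eq_mul_left s.hp.pos h1
  have hpn : p.Coprime n := hmp ▸ h.hcop
  have hFN : ∀ v ∈ M, v ^ p ∈ F → v ∈ F := by
    intro v hv hvp
    haveI : (F.subgroupOf M).Normal := ⟨fun a ha g => by
      rw [mem_subgroupOf]
      show (g : G) * a * (g : G)⁻¹ ∈ F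
      rw [(hcomm g g.2 a a.2).eq, mul_inv_cancel_right]
      exact ha⟩
    have h1 := Subgroup.pow_index_mem (F.subgroupOf M) (⟨v, hv⟩ : M)
    rw [mem_subgroupOf] at h1
    refine ClassGraph.mem_of_pow_mem hpn hvp ?_
    rw [← hFn]
    simpa [relIndex] using h1
  refine ⟨?_, ?_⟩
  · have hFu : ∀ v ∈ F, u * v * u⁻¹ ∈ F := fun v hv => by
      rw [show u * v * u⁻¹ = (u * v * u⁻¹ * v⁻¹) * v by group]
      exact mul_mem (hZF hv.2) hv
    have hfix : ∀ v ∈ M, u * v * u⁻¹ * v⁻¹ ∈ F → v ∈ F := by
      intro v hv ht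
      refine hFN v hv ⟨pow_mem hv p, ?_⟩
      set t := u * v * u⁻¹ * v⁻¹ with htdef
      have e : u * v ^ p * u⁻¹ * (v ^ p)⁻¹ = t ^ p := by
        rw [← conj_pow, show u * v * u⁻¹ = t * v by rw [htdef, inv_mul_cancel_right],
          (hcomm t (hFM ht) v hv).mul_pow, mul_inv_cancel_right]
      rw [e]
      exact (hzp t ht).2
    have hmod := index_modEq_one hup hFM hcomm (fun v hv => hconj u v hv) hFu hfix
    rw [hFn] at hmod
    exact (Nat.modEq_iff_dvd' (by have := h.hn; omega)).mp hmod.symm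
  · set c := u * w * u⁻¹ * w⁻¹ with hc
    have hcz : c ∈ center G := hwF.2
    have hc1 : c ≠ 1 := fun e => huM ((s.eq h hwS.1 hwz).le (mem_cent.mpr (by
      rw [hc, mul_inv_eq_one, mul_inv_eq_iff_eq_mul] at e
      exact e)))
    have hco : orderOf c = p := orderOf_eq_prime (hzp w hwF).1 hc1
    haveI : (zpowers c).Normal := ⟨fun a ha g => by
      rw [mem_center_iff.mp (zpowers_le.mpr hcz ha) g, mul_inv_cancel_right]; exact ha⟩
    set π := QuotientGroup.mk' (zpowers c) with hπ
    have hwu : Commute (π u) (π w) := by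
      have h1 : π c = 1 := (QuotientGroup.eq_one_iff c).mpr (mem_zpowers c)
      change π (u * w * u⁻¹ * w⁻¹) = 1 at h1
      rw [map_mul, map_mul, map_mul, map_inv, map_inv, mul_inv_eq_one, mul_inv_eq_iff_eq_mul] at h1
      exact h1
    have hdec : ∀ a ∈ (P : Subgroup G), ∃ (i j : ℕ) (z : G), z ∈ center G ∧ a = u ^ i * (w ^ j * z) := by
      intro a ha
      have hu1 : (QuotientGroup.mk u : G ⧸ M) ≠ 1 := fun e => huM ((QuotientGroup.eq_one_iff u).mp e)
      obtain ⟨i, hi⟩ := mem_powers_iff_mem_zpowers.mpr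
        (mem_zpowers_of_prime_card (p := p) (G := G ⧸ M) (g' := (QuotientGroup.mk a : G ⧸ M))
          (by rw [← Subgroup.index_eq_card]; exact hMi) hu1)
      change (QuotientGroup.mk u : G ⧸ M) ^ i = QuotientGroup.mk a at hi
      rw [← QuotientGroup.mk_pow, QuotientGroup.eq] at hi
      have hmem : (u ^ i)⁻¹ * a ∈ (P : Subgroup G) := mul_mem (inv_mem (pow_mem huP i)) ha
      have hbF : (u ^ i)⁻¹ * a ∈ F := by
        obtain ⟨k, hk⟩ := PEl.of_isPGroup P.2 hmem
        have : ∀ j, ∀ v ∈ M, v ^ p ^ j ∈ F → v ∈ F := by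
          intro j
          induction j with
          | zero => intro v _ hv; simpa using hv
          | succ j ih =>
            intro v hv hvj
            rw [pow_succ', pow_mul] at hvj
            exact hFN v hv (ih _ (pow_mem hv p) hvj)
        exact this k _ hi (hk ▸ one_mem _)
      have hw1 : (QuotientGroup.mk (⟨w, hwF⟩ : F) : F ⧸ (center G).subgroupOf F) ≠ 1 := fun e =>
        hwz (show w ∈ center G from (QuotientGroup.eq_one_iff (⟨w, hwF⟩ : F)).mp e)
      obtain ⟨j, hj⟩ := mem_powers_iff_mem_zpowers.mpr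
        (mem_zpowers_of_prime_card (p := p) (g' := (QuotientGroup.mk ⟨_, hbF⟩ : F ⧸ (center G).subgroupOf F))
          (by rw [← Subgroup.index_eq_card]; exact hZFp) hw1)
      change (QuotientGroup.mk (⟨w, hwF⟩ : F) : F ⧸ (center G).subgroupOf F) ^ j = QuotientGroup.mk _ at hj
      rw [← QuotientGroup.mk_pow, QuotientGroup.eq, mem_subgroupOf] at hj
      exact ⟨i, j, _, hj, by push_cast; group⟩
    have key : ⁅(P : Subgroup G), (P : Subgroup G)⁆ = zpowers c := by
      refine le_antisymm (commutator_le.mpr fun a ha b hb => ?_) ?_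
      · obtain ⟨i, j, z, hz, rfl⟩ := hdec a ha
        obtain ⟨i', j', z', hz', rfl⟩ := hdec b hb
        rw [← QuotientGroup.eq_one_iff (N := zpowers c)]
        show π ⁅_, _⁆ = 1
        rw [map_commutatorElement, commutatorElement_eq_one_iff_commute]
        have hzc : ∀ z ∈ center G, ∀ g, Commute (π z) g := fun z hz g => by
          obtain ⟨g, rfl⟩ := QuotientGroup.mk'_surjective (zpowers c) g
          exact ((show Commute g z from mem_center_iff.mp hz g).map π).symm
        simp only [map_mul, map_pow]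
        have hA : ∀ y, Commute (π u) y → Commute (π w) y → Commute (π u ^ i * (π w ^ j * π z)) y :=
          fun y h1 h2 => (h1.pow_left i).mul_left ((h2.pow_left j).mul_left (hzc z hz y))
        refine ((hA _ (Commute.refl _) hwu.symm).pow_right i').mul_right
          (((hA _ hwu (Commute.refl _)).pow_right j').mul_right (hzc z' hz' _).symm)
      · rw [zpowers_le, hc, ← commutatorElement_def]
        exact commutator_mem_commutator huP (hSP hwS)
    rw [← Subgroup.card_subtype (P : Subgroup G) (_root_.commutator (P : Subgroup G)), map_subtype_commutator, key,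
      Nat.card_zpowers, hco]

end Cfsg.Agent.GroupStructure3.ThreeSizes
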